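import Groth.Agent.Lib.EnriquesSeveri11.DepthVan
import Groth.Agent.Lib.CurveOm17.AnyField
import Groth.Agent.Lib.Depth.CM
import Groth.Agent.Lib.Depth3.Zero
import Groth.Agent.Lib.VB17.Setup
import Groth.Agent.Lib.PicLift19.Top
import Groth.Agent.Lib.InjMod.GenSum
import Groth.Prelude.Def_CAlg

/-!
# Proper curves with `h⁰(O) = 1` are Cohen–Macaulay and equidimensional
-/

set_option autoImplicit false
set_option linter.style.haveILetI false
set_option backward.isDefEq.respectTransparency false
set_option backward.isDefEq.respectTransparency.types false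
set_option maxHeartbeats 800000

universe u

open CategoryTheory CategoryTheory.Limits AlgebraicGeometry TopologicalSpace

noncomputable section

namespace Groth.Agent.DlzCurve17

open Groth.Agent.M1 Groth.Agent.M2 Groth.Agent.CurveCoh17

variable {k : Type u} [Field k] {X : Scheme.{u}} [X.Over (Spec (CommRingCat.of k))]

theorem eq_zero_or_isUnit_of_h0 (h0 : Module.finrank k (Coh.HH X (Coh.structureModule X) 0) = 1)
    (g : Γ(X, ⊤)) : g = 0 ∨ IsUnit g := by
  let F := Coh.structureModule X
  obtain ⟨x, hx, hspan⟩ := finrank_eq_one_iff'.1 h0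
  let φ := Coh.toGlobal (X ↘ Spec (CommRingCat.of k))
  have hsmul : ∀ (c : k) (z : Coh.HH X F 0), hh0 F (c • z) = (show Γ(X, ⊤) from φ c) • hh0 F z := fun c z =>
    hh0_smul (M := F) _ z
  obtain ⟨a, ha⟩ := hspan ((hh0 F).symm (one ⊤))
  have h1 := congrArg (hh0 F) ha
  rw [hsmul, AddEquiv.apply_symm_apply] at h1
  have h1' : (show Γ(X, ⊤) from φ a) * (show Γ(X, ⊤) from hh0 F x) = 1 := h1
  obtain ⟨c, hc⟩ := hspan ((hh0 F).symm ((show Γ(X, ⊤) from g) : Γ(F, ⊤)))
  have h2 := congrArg (hh0 F) hc
  rw [hsmul, AddEquiv.apply_symm_apply] at h2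
  have h2' : (show Γ(X, ⊤) from φ c) * (show Γ(X, ⊤) from hh0 F x) = g := h2
  rcases eq_or_ne c 0 with rfl | hc0
  · left
    rw [← h2', map_zero]
    exact zero_mul _
  · right
    rw [← h2']
    exact ((IsUnit.mk0 c hc0).map φ).mul (IsUnit.of_mul_eq_one_right _ h1')

variable [IsProper (X ↘ Spec (CommRingCat.of k))] (hdim : topologicalKrullDim X = 1)
  (h0 : Module.finrank k (Coh.HH X (Coh.structureModule X) 0) = 1)

include hdim h0

theorem equidim_of_h0 : ∀ Z ∈ irreducibleComponents (X : Type u), topologicalKrullDim Z = 1 := by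
  intro Z hZ
  haveI := VB17.isNoetherian_of_over (k := k) (X := X)
  haveI := CurveOm17.connectedSpace_of_h0 h0
  have hle : topologicalKrullDim Z ≤ 1 := (topologicalKrullDim_subspace_le X Z).trans hdim.le
  refine hle.antisymm ?_
  by_contra hlt
  have hZc := isClosed_of_mem_irreducibleComponents Z hZ
  obtain ⟨η, hη⟩ := QuasiSober.sober hZ.1 hZc
  have hsing : Z = {η} := by
    refine Set.eq_singleton_iff_unique_mem.2 ⟨hη.mem, fun y hy => ?_⟩
    by_contra hne
    let C : Z → IrreducibleCloseds Z := fun q => ⟨closure {q}, isIrreducible_singleton.closure, isClosed_closure⟩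
    let a : Z := ⟨η, hη.mem⟩
    let b : Z := ⟨y, hy⟩
    have hab : a ⤳ b := Topology.IsInducing.subtypeVal.specializes_iff.1 (hη.specializes hy)
    have hC : C b < C a := by
      refine lt_of_le_of_ne (show closure ({b} : Set Z) ⊆ closure {a} from specializes_iff_closure_subset.1 hab)
        fun he => hne ?_
      exact (congrArg Subtype.val (inseparable_iff_closure_eq.2
        (congrArg (fun c : IrreducibleCloseds Z => (c : Set Z)) he)).eq)
    let p : LTSeries (IrreducibleCloseds Z) := (RelSeries.singleton _ (C a)).cons (C b) (by simpa using hC)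
    exact hlt (Order.LTSeries.length_le_krullDim p)
  obtain ⟨o, ho, ⟨x, hxo⟩, hoZ⟩ := NoetherianSpace.exists_isOpen_nonempty_subset_irreducibleComponent Z hZ
  have hopen : IsOpen Z := by
    rw [hsing] at hoZ ⊢
    rw [← (Set.subset_singleton_iff_eq.1 hoZ).resolve_left (Set.nonempty_iff_ne_empty.1 ⟨x, hxo⟩)]
    exact ho
  have huniv : Z = Set.univ := IsClopen.eq_univ ⟨hZc, hopen⟩ hZ.1.nonempty
  exact hlt (by
    rw [huniv]
    exact ((IsHomeomorph.topologicalKrullDim_eq _ (Homeomorph.Set.univ (X : Type u)).isHomeomorph).trans hdim).ge)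

theorem isCM_of_h0 (x : X) : LocCoh.IsCohenMacaulayLocalRing (X.presheaf.stalk x) := by
  haveI := VB17.isNoetherian_of_over (k := k) (X := X)
  let R := X.presheaf.stalk x
  have hd : ringKrullDim R ≤ 1 := (VB17.ringKrullDim_stalk_le_topologicalKrullDim x).trans hdim.le
  have hdep := DepthLib.depth_le_supportDim (R := R) (M := R)
  rw [Module.supportDim_self_eq_ringKrullDim] at hdep
  refine { supportDim_eq_depth := ?_ }
  rw [Module.supportDim_self_eq_ringKrullDim]
  refine le_antisymm ?_ hdep
  by_cases hz : LocCoh.depth R R = 0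
  · rw [hz]
    obtain ⟨z, hz0, hkill⟩ := (Depth3.mem_associatedPrimes_iff_exists R).1 (Depth3.depth_eq_zero_iff.1 hz)
    by_contra hne
    have hlt : (0 : WithBot ℕ∞) < ringKrullDim R := lt_of_not_ge hne
    have hxc : IsClosed ({x} : Set X) := by
      have hmax : ¬ IsMax x := fun hm => hlt.ne' (by
        show ringKrullDim (X.presheaf.stalk x) = 0
        rw [ringKrullDim_stalk_eq_coheight, Order.coheight_eq_zero.2 hm]
        rfl)
      obtain ⟨η, hη⟩ := not_isMax_iff.1 hmax
      exact PicLift19.isClosed_singleton_of_dim_le_one hdim.le (show η ⤳ x from hη.le) hη.ne'.symm.symm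
    let g₁ : (Coh.structureModule X).presheaf.stalk x := (Coh.structureModule X).presheaf.germ ⊤ x trivial (one ⊤)
    obtain ⟨σ, hσ⟩ := ES11.exists_global_of_killed (M := Coh.structureModule X)
      (M1.isCoh_structureModule X).1 hxc ((show X.presheaf.stalk x from z) • g₁) fun a ha => by
        rw [← mul_smul, show a * (show X.presheaf.stalk x from z) = 0 from hkill a ha, zero_smul]
    have hσ' : X.presheaf.germ ⊤ x trivial (show Γ(X, ⊤) from σ) = (show X.presheaf.stalk x from z) := by
      refine sub_eq_zero.1 (InjMod.eq_zero_of_smul_germ_one (U := ⊤) (y := x) trivial _ ?_)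
      rw [sub_smul, ← hσ, sub_eq_zero, ← M1.germ_smul]
      exact congrArg _ (mul_one (show Γ(X, ⊤) from σ))
    rcases eq_zero_or_isUnit_of_h0 h0 (show Γ(X, ⊤) from σ) with h' | hu
    · exact hz0 (hσ'.symm.trans (by rw [h', map_zero]))
    · have hzu : IsUnit (show R from z) := by rw [← hσ']; exact hu.map (X.presheaf.germ ⊤ x trivial).hom
      have hm : IsLocalRing.maximalIdeal R = ⊥ := by
        refine eq_bot_iff.2 fun a ha => (Submodule.mem_bot R).2 ?_
        exact (hzu.mul_left_eq_zero).1 (hkill a ha)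
      exact hlt.ne' (ringKrullDim_eq_zero_of_isField (IsLocalRing.isField_iff_maximalIdeal_eq.2 hm))
  · exact hd.trans (by exact_mod_cast (Order.one_le_iff_pos.2 (pos_iff_ne_zero.2 hz)))

end Groth.Agent.DlzCurve17

end
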