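import Groth.Agent.Lib.DlzCurve17.EndOmega
import Groth.Agent.Lib.DlzCurve17.H0One
import Groth.Agent.Lib.Cyc26.PBA
import Groth.Agent.Lib.VeryAmple11.TsecRules
import Groth.Agent.Lib.RelAmple18.Generated

/-!
# Endomorphisms of the dualizing module of a curve with `h⁰(O) = 1`
-/

set_option autoImplicit false
set_option linter.style.haveILetI false
set_option backward.isDefEq.respectTransparency false
set_option maxHeartbeats 1000000

universe u

open CategoryTheory CategoryTheory.Limits AlgebraicGeometry TopologicalSpace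
attribute [local instance] HasDerivedCategory.standard

noncomputable section

namespace Groth.Agent.DlzCurve17

open Groth.Agent.M1 Groth.Agent.M2 Groth.Agent.CurveCoh17

variable {X : Scheme.{u}} (k : Type u) [Field k] [X.Over (Spec (CommRingCat.of k))]
  [IsProper (X ↘ Spec (CommRingCat.of k))]
  [DCoh.HasRpush (X ↘ Spec (CommRingCat.of k))] (h : DCoh.RpushPreservesQCoh (X ↘ Spec (CommRingCat.of k)))
  [DCoh.HasShriek (X ↘ Spec (CommRingCat.of k)) h]
  (OY : DCoh.DQCoh (Spec (CommRingCat.of k)))
  (hOY : Nonempty (OY.obj ≅ DCoh.inD (Spec (CommRingCat.of k)) (Coh.structureModule (Spec (CommRingCat.of k)))))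
  (hdim : topologicalKrullDim X = 1)

local notation "ω" => DCoh.dualizingMod (X ↘ Spec (CommRingCat.of k)) h OY 1

include hOY hdim

/-- A coherent module without maps to the dualizing module has no `H¹`. -/
theorem subsingleton_h1_of_forall_zero {F : X.Modules} (hF : Coh.IsCoh F) (h0 : ∀ φ : F ⟶ ω, φ = 0) :
    Subsingleton (Coh.HH X F 1) := by
  obtain ⟨t, ht⟩ := exists_trace k X hdim h OY hOY
  haveI : Module.Free k (Coh.HH X F 1) := Module.Free.of_divisionRing _ _
  refine subsingleton_of_forall_eq 0 fun v => (Module.forall_dual_apply_eq_zero_iff k v).1 fun ψ => ?_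
  obtain ⟨φ, hφ, -⟩ := ht F hF ψ
  have hm : hmap k φ 1 v = 0 := by rw [h0 φ]; exact hmap_zero k 1 v
  exact (hφ v).trans ((congrArg t hm).trans (map_zero t))

variable (h0 : Module.finrank k (Coh.HH X (Coh.structureModule X) 0) = 1)

include h0

/-- Endomorphisms of the dualizing module are zero or invertible scalars. -/
theorem exists_scalar (θ : ω ⟶ ω) : ∃ c : Γ(X, ⊤), (c = 0 ∨ IsUnit c) ∧
    ∀ (x : X) (v : (ω).presheaf.stalk x), RefHull.stalkMapₗ θ x v = X.presheaf.germ ⊤ x trivial c • v := by
  haveI := isIso_secHom_ofHom k h OY hOY (isCM_of_h0 hdim h0) (equidim_of_h0 hdim h0)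
  let χ := secHom (RefHull.ofHom (𝟙 ω) (⊤ : X.Opens))
  obtain ⟨c, hc⟩ : ∃ c : Γ(X, ⊤), χ.app ⊤ (show Γ(Coh.structureModule X, ⊤) from c) = RefHull.ofHom θ ⊤ :=
    ⟨(inv χ).app ⊤ (RefHull.ofHom θ ⊤), by
      show (inv χ ≫ χ).app ⊤ _ = _
      rw [IsIso.inv_hom_id]
      rfl⟩
  refine ⟨c, eq_zero_or_isUnit_of_h0 h0 c, fun x v => ?_⟩
  rw [Twist.secHom_app] at hc
  have h1 := congrArg (fun s : Γ(RefHull.homSh ω ω, ⊤) => (s.1 ⟨x, trivial⟩) v) hc
  refine (Eq.symm h1).trans ?_
  show X.presheaf.germ ⊤ x trivial c • RefHull.stalkMapₗ (𝟙 ω) x v = _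
  refine congrArg _ ?_
  obtain ⟨V, hV, m, rfl⟩ := (ω).presheaf.exists_germ_eq v
  exact RefHull.stalkMapₗ_germ _ _ _ _

omit hdim in
theorem nontrivial_stalk_dualizing (hdim : topologicalKrullDim X = 1) (x : X) :
    Nontrivial ((ω).presheaf.stalk x) := by
  by_contra hn
  haveI := not_nontrivial_iff_subsingleton.1 hn
  exact one_ne_zero (α := X.presheaf.stalk x)
    ((bijective_smul_stalk k h OY hOY (isCM_of_h0 hdim h0) (equidim_of_h0 hdim h0) x).1
      (LinearMap.ext fun v => Subsingleton.elim _ _))

/-- No maps `ω ⊗ L ⟶ ω` for a nontrivial globally generated invertible `L`. -/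
theorem hom_tensor_eq_zero {L : X.Modules} (hL : PicF.IsInvertible L) (hgg : Curv2.IsGloballyGenerated L)
    (hnt : IsEmpty (L ≅ Coh.structureModule X)) (ψ : CohB1.tensorMod ω L ⟶ ω) : ψ = 0 := by
  haveI := VB17.isNoetherian_of_over (k := k) (X := X)
  have hL1 := (isInvertible_iff_isFinLocFreeOfRank_one L).1 hL
  let θ : (Coh.structureModule X ⟶ L) → (ω ⟶ ω) := fun t => (tensorRUnit ω).inv ≫ tensorMap (𝟙 ω) t ≫ ψ
  have hθ : ∀ t (x : X) (v : (ω).presheaf.stalk x), RefHull.stalkMapₗ (θ t) x v =
      stalkLin ψ x ((stalkEquiv ω L x).symm (v ⊗ₜ stalkLin t x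
        ((Coh.structureModule X).presheaf.germ ⊤ x trivial (one ⊤)))) := by
    intro t x v
    obtain ⟨U, hU, s, rfl⟩ := (ω).presheaf.exists_germ_eq v
    have e1 : (tensorRUnit ω).inv.app U s = tsec ω (Coh.structureModule X) s (one U) := by
      have h2 := congrArg ((tensorRUnit ω).inv.app U) (VA11.tensorRUnit_tsec ω s (one U))
      rw [show ((show Γ(X, U) from one U) • s : Γ(ω, U)) = s from one_smul _ s] at h2
      refine h2.symm.trans ?_
      show ((tensorRUnit ω).hom ≫ (tensorRUnit ω).inv).app U _ = _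
      rw [Iso.hom_inv_id]
      rfl
    rw [RefHull.stalkMapₗ_germ, ← germ_mres (Coh.structureModule X) (le_top : U ≤ ⊤) hU, mres_one]
    simp only [stalkLin_apply, germ_naturality]
    rw [(LinearEquiv.symm_apply_eq _).2 (stalkEquiv_tsec ω L x hU s _).symm, germ_naturality]
    refine congrArg _ ?_
    show (tensorMap (𝟙 ω) t ≫ ψ).app U ((tensorRUnit ω).inv.app U s) = _
    rw [e1]
    show ψ.app U ((tensorMap (𝟙 ω) t).app U _) = _
    rw [tensorMap_tsec]
    rfl
  choose c hc using fun t => exists_scalar k h OY hOY hdim h0 (θ t)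
  by_cases hall : ∀ t, c t = 0
  · refine Scheme.Modules.hom_ext _ _ fun U => ConcreteCategory.hom_ext _ _ fun m => M1.section_ext _ _ fun x hx => ?_
    obtain ⟨t, ht⟩ := RA.exists_gen_of_isGloballyGenerated hL hgg x
    have hg := (Amp.mem_genLocus_iff hL _).1 ht
    suffices h1 : ∀ z, stalkLin ψ x z = 0 by
      refine ((M1.germ_naturality ψ U x hx m).symm.trans (h1 _)).trans ?_
      exact (map_zero _).symm
    intro z
    obtain ⟨z, rfl⟩ := (stalkEquiv ω L x).symm.surjective z
    induction z using TensorProduct.induction_on with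
    | zero => rw [map_zero, map_zero]
    | add a b ha hb => rw [map_add, map_add, ha, hb, add_zero]
    | tmul v l =>
      obtain ⟨r, rfl⟩ := hg.2 l
      rw [TensorProduct.tmul_smul, map_smul, map_smul]
      refine (congrArg (r • ·) ?_).trans (smul_zero r)
      have := (hc t).2 x v
      rw [hall t, map_zero, zero_smul, hθ] at this
      rw [show stalkLin t x ((Coh.structureModule X).presheaf.germ ⊤ x trivial (one ⊤)) =
        (L.presheaf.germ ⊤ x trivial (t.app ⊤ (one ⊤)) : L.presheaf.stalk x) from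
          M1.germ_naturality t ⊤ x trivial _] at this
      exact this
  · exfalso
    push Not at hall
    obtain ⟨t, ht⟩ := hall
    have hu := (hc t).1.resolve_left ht
    refine hnt.false ?_
    haveI : IsIso t := by
      haveI : Epi t := (M1.epi_iff_stalk t).2 fun x => ?_
      exact Cyc26A.isIso_of_epi_invertible (PicLoc.isInvertible_structureModule X) hL t
      show Function.Surjective (stalkLin t x)
      obtain ⟨e⟩ := nonempty_stalk_equiv hL1 x
      let g := stalkLin t x ((Coh.structureModule X).presheaf.germ ⊤ x trivial (one ⊤))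
      by_cases hr : IsUnit (e g 0)
      · refine fun l => ⟨(e l 0 * ↑hr.unit⁻¹) • (Coh.structureModule X).presheaf.germ ⊤ x trivial (one ⊤), ?_⟩
        rw [map_smul]
        apply e.injective
        funext i
        rw [Fin.fin_one_eq_zero i, map_smul, Pi.smul_apply, smul_eq_mul, mul_assoc, IsUnit.val_inv_mul, mul_one]
      · exfalso
        haveI := finite_stalk (isCoh_dualizingMod k X h OY hOY) x
        haveI := nontrivial_stalk_dualizing k h OY hOY h0 hdim x
        have hg : g = e g 0 • e.symm 1 := by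
          apply e.injective
          funext i
          rw [Fin.fin_one_eq_zero i, map_smul, LinearEquiv.apply_symm_apply, Pi.smul_apply, Pi.one_apply,
            smul_eq_mul, mul_one]
        refine top_ne_bot (α := Submodule (X.presheaf.stalk x) ((ω).presheaf.stalk x))
          (Submodule.eq_bot_of_le_smul_of_le_jacobson_bot (IsLocalRing.maximalIdeal _) ⊤ (Module.Finite.fg_top)
            (fun v _ => ?_) (IsLocalRing.maximalIdeal_le_jacobson _))
        obtain ⟨u, hu'⟩ := hu.map (X.presheaf.germ ⊤ x trivial).hom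
        have h1 := (hc t).2 x ((↑u⁻¹ : X.presheaf.stalk x) • v)
        rw [← hu', ← mul_smul, Units.mul_inv, one_smul, hθ] at h1
        rw [← h1, show stalkLin t x _ = g from rfl, hg, TensorProduct.tmul_smul, map_smul, map_smul]
        exact Submodule.smul_mem_smul ((IsLocalRing.mem_maximalIdeal _).2 hr) trivial
    exact (asIso t).symm

end Groth.Agent.DlzCurve17

end
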