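import Groth.Agent.Lib.ArInter.Generic
import Groth.Agent.Lib.ArInter.ModelInt
import Groth.Agent.Lib.NefH1.Mult
import Groth.Agent.Lib.CurveCoh17.Vanish
import Groth.Agent.Lib.CurveCoh17.Twist
import Groth.Agent.Lib.IdealMul.Inf
import Groth.Agent.Lib.SerreCl8.Main
import Groth.Agent.Lib.ModM1.FibreProd
import Groth.Agent.Lib.DVRTriv4.Seq
import Groth.Agent.Lib.NefH1.Core
import Groth.Agent.Lib.NumPoly18.SurfProj
import Groth.Agent.Lib.NumConn10.Stalk
import Groth.Agent.Lib.TFOne27.Basic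
import Groth.Agent.Lib.Curve17.SubSheaf
import Mathlib.Algebra.Module.PID

/-!
# Acyclic quasi-coherent envelopes and a non-torsion class on a model
-/

set_option autoImplicit false
set_option linter.style.haveILetI false
set_option backward.isDefEq.respectTransparency false
set_option backward.isDefEq.respectTransparency.types false
set_option maxHeartbeats 1000000

universe u

open CategoryTheory CategoryTheory.Limits AlgebraicGeometry TopologicalSpace

attribute [local instance] Abelian.hasFiniteBiproducts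

noncomputable section

namespace Groth.Agent.DlzCurve17

open Groth.Agent.M1 Groth.Agent.CurveCoh17 Groth.Agent.CohFound

variable {X : Scheme.{u}}

theorem isQCoh_biproduct_fin {r : ℕ} (G : Fin r → X.Modules) (h : ∀ i, Coh.IsQCoh (G i)) : Coh.IsQCoh (⨁ G) := by
  let e : (∐ fun j : ULift.{u} (Fin r) => G j.down) ≅ ⨁ G :=
    Sigma.whiskerEquiv Equiv.ulift (fun _ => Iso.refl _) ≪≫ (biproduct.isoCoproduct G).symm
  exact (SheafOfModules.isQuasicoherent X.ringCatSheaf).prop_of_iso e (SerreCl8.isQCoh_sigma _ fun j => h j.down)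

/-- A quasi-coherent module embeds in a quasi-coherent module without first cohomology. -/
theorem exists_mono_h1_zero (R : Type u) [CommRing R] [X.Over (Spec (CommRingCat.of R))] [IsNoetherian X]
    [X.IsSeparated] {M : X.Modules} (hM : Coh.IsQCoh M) :
    ∃ (P : X.Modules) (e : M ⟶ P), Mono e ∧ Coh.IsQCoh P ∧ Subsingleton (Coh.HH X P 1) := by
  obtain ⟨T, hT⟩ := IdealMulL.exists_finite_affine_cover (X := X)
  let r := T.card
  let U : Fin r → X.Opens := fun i => (T.equivFin.symm i).1.1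
  have hU : ∀ i, IsAffineOpen (U i) := fun i => (T.equivFin.symm i).1.2
  have hcov : ∀ x : X, ∃ i, x ∈ U i := fun x => by
    obtain ⟨t, ht⟩ := hT x
    exact ⟨T.equivFin t, by simpa [U] using ht⟩
  let G : Fin r → X.Modules := fun i => (Scheme.Modules.pushforward (U i).ι).obj (M.restrict (U i).ι)
  let η : ∀ i, M ⟶ G i := fun i => (Scheme.Modules.restrictAdjunction (U i).ι).unit.app M
  refine ⟨⨁ G, biproduct.lift η, ?_, isQCoh_biproduct_fin G fun i => ?_, ?_⟩
  · refine (M1.mono_iff_stalk _).2 fun x => ?_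
    obtain ⟨i, hi⟩ := hcov x
    have h1 : Function.Bijective ((M1.stalkAb x).map (η i)) :=
      bijective_stalkMap_of_app (η i) (U i) ((Twist.isIso_restrict_map_iff (η i) (U i)).1
        (isIso_restrict_unit (U i).ι M)) hi
    intro a b hab
    refine h1.1 ?_
    have h2 := congrArg ((M1.stalkAb x).map (biproduct.π G i)) hab
    rw [← CategoryTheory.comp_apply, ← CategoryTheory.comp_apply, ← Functor.map_comp, biproduct.lift_π] at h2
    exact h2
  · haveI : IsAffineHom (U i).ι := isAffineHom_ι (hU i)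
    exact M1.isQCoh_push (U i).ι (isQCoh_restrict hM (U i).ι)
  · refine NefH1.subsingleton_HH_biproduct R G 1 fun i => ?_
    haveI : IsAffineHom (U i).ι := isAffineHom_ι (hU i)
    haveI : IsAffine (U i : Scheme.{u}) := hU i
    have hMU : Coh.IsQCoh (M.restrict (U i).ι) := isQCoh_restrict hM (U i).ι
    haveI : (M.restrict (U i).ι).IsQuasicoherent := hMU
    rw [subsingleton_HH_iff]
    obtain ⟨e⟩ := nonempty_hc_push_isAffineHom (U i).ι (M.restrict (U i).ι) 1 ⊤
    have hsub := subsingleton_hc_isAffineOpen (M.restrict (U i).ι) (U := (U i).ι ⁻¹ᵁ ⊤)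
      (isAffineOpen_top ((U i) : Scheme.{u})) 0
    exact @Equiv.subsingleton _ _ e.toEquiv hsub

theorem eq_zero_of_notMem_support {M : X.Modules} {x : X} (h : x ∉ CohB1.support M) (a : M.presheaf.stalk x) :
    a = 0 :=
  (Classical.not_not.1 (fun hs => h hs)).elim _ _

theorem stalkLin_toSubscheme_one_ne_zero (J : X.IdealSheafData) {x : X} (hx : x ∈ (J.support : Set X)) :
    stalkLin (ClSub.toSubscheme J) x ((Coh.structureModule X).presheaf.germ ⊤ x trivial (one ⊤)) ≠ 0 := by
  intro h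
  rw [← NumPoly18.support_quotMod] at hx
  refine hx (subsingleton_of_forall_eq 0 fun b => ?_)
  obtain ⟨a, rfl⟩ := NumConn10.surjective_toSubscheme J x b
  obtain ⟨c, rfl⟩ := NumConn10.exists_smul_one x a
  rw [map_smul]
  exact (congrArg (c • ·) h).trans (smul_zero c)

/-- A coherent module on a proper model carrying a non-torsion class in first cohomology. -/
theorem exists_functional {R : Type u} [CommRing R] [IsDomain R] [IsDiscreteValuationRing R]
    [X.Over (Spec (CommRingCat.of R))] [IsProper (X ↘ Spec (CommRingCat.of R))] {C : Scheme.{u}}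
    {f : C ⟶ Spec (CommRingCat.of (FractionRing R))} {g : C ⟶ X}
    (hg : IsPullback g f (X ↘ Spec (CommRingCat.of R))
      (Spec.map (CommRingCat.ofHom (algebraMap R (FractionRing R)))))
    {Q₁ Q₂ : C} (hQ₁ : IsClosed ({Q₁} : Set C)) (hQ₂ : IsClosed ({Q₂} : Set C)) (hne : Q₁ ≠ Q₂)
    (hsurj : Function.Surjective (Coh.toGlobal (X ↘ Spec (CommRingCat.of R)))) :
    ∃ F : X.Modules, Coh.IsCoh F ∧ ∃ ψ : Coh.HH X F 1 →ₗ[R] R, ψ ≠ 0 := by
  classical
  let p := X ↘ Spec (CommRingCat.of R)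
  haveI : IsNoetherian X := CohFound.isNoetherian_of_isProper p
  haveI := ArInter.isOpenImmersion_generic hg
  obtain ⟨π, hπ⟩ := IsDiscreteValuationRing.exists_irreducible R
  let V : X.Opens := p ⁻¹ᵁ (Spec (CommRingCat.of R)).basicOpen ((Scheme.ΓSpecIso (CommRingCat.of R)).inv π)
  have hV : V = X.basicOpen (Coh.toGlobal p π) := Scheme.preimage_basicOpen ..
  have hrange : Set.range g = (V : Set X) := by rw [hV]; exact ArInter.range_generic hg hπ
  have hmem : ∀ Q : C, g Q ∈ V := fun Q => by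
    show g Q ∈ (V : Set X)
    rw [← hrange]; exact ⟨Q, rfl⟩
  have hcl : ∀ {Q : C}, IsClosed ({Q} : Set C) → ∀ y ∈ V, y ∈ closure ({g Q} : Set X) → y = g Q := by
    intro Q hQ y hy hyc
    obtain ⟨q, rfl⟩ : y ∈ Set.range g := hrange.ge hy
    have h1 : Q ⤳ q := g.isOpenEmbedding.isInducing.specializes_iff.1 (specializes_iff_mem_closure.2 hyc)
    exact congrArg g (h1.mem_closed hQ rfl)
  have hP : g Q₁ ≠ g Q₂ := fun h => hne (g.isOpenEmbedding.injective h)
  let J₁ := Scheme.IdealSheafData.vanishingIdeal (⟨closure {g Q₁}, isClosed_closure⟩ : Closeds X)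
  let J₂ := Scheme.IdealSheafData.vanishingIdeal (⟨closure {g Q₂}, isClosed_closure⟩ : Closeds X)
  have hs₁ : (J₁.support : Set X) = closure {g Q₁} := by simp [J₁]
  have hs₂ : (J₂.support : Set X) = closure {g Q₂} := by simp [J₂]
  let φ : Coh.structureModule X ⟶ ClSub.quotMod J₁ ⊞ ClSub.quotMod J₂ :=
    biprod.lift (ClSub.toSubscheme J₁) (ClSub.toSubscheme J₂)
  have hQq := M1.isQCoh_biprod (CurveCoh17.isCoh_quotMod J₁).1 (CurveCoh17.isCoh_quotMod J₂).1
  have hO := (M1.isCoh_structureModule X).1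
  have hIm : Coh.IsQCoh (Abelian.image φ) := M1.isQCoh_kernel hQq (M1.isQCoh_cokernel hO hQq φ) _
  let q := Abelian.factorThruImage φ
  let ι := Abelian.image.ι φ
  have hqι : q ≫ ι = φ := Abelian.image.fac φ
  let gO : ∀ x : X, (Coh.structureModule X).presheaf.stalk x := fun x =>
    (Coh.structureModule X).presheaf.germ ⊤ x trivial (one ⊤)
  have hfst : ∀ (x : X) b, stalkLin (biprod.fst : _ ⊞ _ ⟶ ClSub.quotMod J₁) x
      (stalkLin ι x (stalkLin q x b)) = stalkLin (ClSub.toSubscheme J₁) x b := fun x b => by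
    rw [← TFOne27.stalkLin_comp, ← TFOne27.stalkLin_comp, reassoc_of% hqι, biprod.lift_fst]
  have hsnd : ∀ (x : X) b, stalkLin (biprod.snd : _ ⊞ _ ⟶ ClSub.quotMod J₂) x
      (stalkLin ι x (stalkLin q x b)) = stalkLin (ClSub.toSubscheme J₂) x b := fun x b => by
    rw [← TFOne27.stalkLin_comp, ← TFOne27.stalkLin_comp, reassoc_of% hqι, biprod.lift_snd]
  have hext : ∀ (x : X) (v : (ClSub.quotMod J₁ ⊞ ClSub.quotMod J₂).presheaf.stalk x),
      stalkLin (biprod.fst : _ ⊞ _ ⟶ ClSub.quotMod J₁) x v = 0 →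
      stalkLin (biprod.snd : _ ⊞ _ ⟶ ClSub.quotMod J₂) x v = 0 → v = 0 := fun x v h1 h2 => by
    have h3 : v = stalkLin (biprod.fst ≫ biprod.inl + biprod.snd ≫ biprod.inr) x v := by
      rw [biprod.total]
      exact ((ConcreteCategory.congr_hom ((M1.stalkAb x).map_id _) v)).symm
    rw [h3]
    show (M1.stalkAb x).map (_ + _) v = 0
    rw [Functor.map_add]
    refine (congrArg₂ (· + ·) ?_ ?_).trans (add_zero 0)
    · show stalkLin (biprod.fst ≫ biprod.inl) x v = 0
      rw [TFOne27.stalkLin_comp, h1, map_zero]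
    · show stalkLin (biprod.snd ≫ biprod.inr) x v = 0
      rw [TFOne27.stalkLin_comp, h2, map_zero]
  have hzero : ∀ (x : X), x ∉ closure ({g Q₁} : Set X) → x ∉ closure ({g Q₂} : Set X) →
      ∀ v : (Abelian.image φ).presheaf.stalk x, v = 0 := fun x h1 h2 v =>
    TFOne27.injective_stalkLin ι x ((hext x _
      (eq_zero_of_notMem_support (by rw [NumPoly18.support_quotMod, hs₁]; exact h1) _)
      (eq_zero_of_notMem_support (by rw [NumPoly18.support_quotMod, hs₂]; exact h2) _)).trans (map_zero _).symm)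
  let ε : Γ(Abelian.image φ, ⊤) := q.app ⊤ (one ⊤)
  have hεx : ∀ x : X, (Abelian.image φ).presheaf.germ ⊤ x trivial ε = stalkLin q x (gO x) := fun x =>
    (M1.germ_naturality q ⊤ x trivial (one ⊤)).symm
  let fam : ∀ y : V, (Abelian.image φ).presheaf.stalk y.1 := fun y =>
    if y.1 ∈ closure ({g Q₂} : Set X) then 0 else (Abelian.image φ).presheaf.germ ⊤ y.1 trivial ε
  obtain ⟨t, ht, -⟩ := Curve17.existsUnique_of_germPred (Abelian.image φ) fam fun y => by
    by_cases hy : y.1 ∈ closure ({g Q₂} : Set X)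
    · refine ⟨V ⊓ ⟨(closure ({g Q₁} : Set X))ᶜ, isClosed_closure.isOpen_compl⟩, ⟨y.2, fun h => hP ?_⟩,
        homOfLE inf_le_left, 0, fun w => ?_⟩
      · exact (hcl hQ₁ _ y.2 h).symm.trans (hcl hQ₂ _ y.2 hy)
      · refine Eq.trans ?_ (map_zero _).symm
        show fam ⟨w.1, w.2.1⟩ = 0
        by_cases hw : w.1 ∈ closure ({g Q₂} : Set X)
        · exact if_pos hw
        · exact (if_neg hw).trans (hzero w.1 w.2.2 hw _)
    · refine ⟨V ⊓ ⟨(closure ({g Q₂} : Set X))ᶜ, isClosed_closure.isOpen_compl⟩, ⟨y.2, hy⟩,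
        homOfLE inf_le_left, mres (Abelian.image φ) le_top ε, fun w => ?_⟩
      show fam ⟨w.1, w.2.1⟩ = _
      exact (if_neg w.2.2).trans (M1.germ_mres (Abelian.image φ) le_top w.2 ε).symm
  obtain ⟨k, t₀, ht₀⟩ := ArInter.exists_pow_smul_extend (inferInstance : IsProper p) hIm π t
  have hunit : ∀ (Q : C) (a : R), a ≠ 0 → IsUnit (X.presheaf.germ ⊤ (g Q) trivial (Coh.toGlobal p a)) := by
    intro Q a ha
    obtain ⟨n, u, rfl⟩ := IsDiscreteValuationRing.eq_unit_mul_pow_irreducible ha hπ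
    have hu : IsUnit (X.presheaf.germ ⊤ (g Q) trivial (Coh.toGlobal p π)) :=
      (X.mem_basicOpen (Coh.toGlobal p π) (g Q) (trivial : g Q ∈ (⊤ : X.Opens))).1 (hV ▸ hmem Q)
    rw [map_mul, map_mul, map_pow, map_pow]
    exact ((u.isUnit.map (Coh.toGlobal p)).map (X.presheaf.germ ⊤ (g Q) trivial).hom).mul (hu.pow n)
  have hgerm : ∀ Q : C, (Abelian.image φ).presheaf.germ ⊤ (g Q) trivial t₀ =
      X.presheaf.germ ⊤ (g Q) trivial (Coh.toGlobal p (π ^ k)) • fam ⟨g Q, hmem Q⟩ := fun Q => by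
    have h1 := congrArg ((Abelian.image φ).presheaf.germ V (g Q) (hmem Q)) ht₀
    rw [M1.germ_mres, M1.germ_smul, map_pow, TopCat.Presheaf.germ_res_apply, ht ⟨g Q, hmem Q⟩] at h1
    rw [h1, map_pow, map_pow]
  haveI : Epi q := inferInstance
  have hker : Coh.IsCoh (kernel q) := M1.isCoh_kernel (M1.isCoh_structureModule X) hIm q
  refine ⟨kernel q, hker, ?_⟩
  let y := hdelta R (NefH1.epiSC_shortExact q) 0 ((hh0 _).symm t₀)
  have hy : ∀ c : R, c • y = 0 → c = 0 := fun c hc => by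
    rw [← map_smul] at hc
    obtain ⟨b, hb⟩ := (exact_hmap_hdelta R (NefH1.epiSC_shortExact q) 0 _).1 hc
    obtain ⟨r, hr⟩ := hsurj (show Γ(X, ⊤) from hh0 _ b)
    have h2 : q.app ⊤ (show Γ(Coh.structureModule X, ⊤) from Coh.toGlobal p r) =
        (show Γ(X, ⊤) from Coh.toGlobal p c) • t₀ := by
      rw [show (show Γ(Coh.structureModule X, ⊤) from Coh.toGlobal p r) = hh0 _ b from hr]
      refine ((hh0_hmap R q b).symm.trans (congrArg (hh0 _) hb)).trans ?_
      refine (hh0_smul (M := Abelian.image φ) _ _).trans ?_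
      rw [AddEquiv.apply_symm_apply]
      rfl
    have h3 : ∀ Q : C, X.presheaf.germ ⊤ (g Q) trivial (Coh.toGlobal p r) • stalkLin q (g Q) (gO (g Q)) =
        (X.presheaf.germ ⊤ (g Q) trivial (Coh.toGlobal p c) *
          X.presheaf.germ ⊤ (g Q) trivial (Coh.toGlobal p (π ^ k))) • fam ⟨g Q, hmem Q⟩ := fun Q => by
      have h4 := congrArg ((Abelian.image φ).presheaf.germ ⊤ (g Q) trivial) h2
      rw [M1.germ_smul, hgerm, ← mul_smul, ← M1.germ_naturality] at h4
      refine Eq.trans ?_ h4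
      refine (map_smul (stalkLin q (g Q)) _ (gO (g Q))).symm.trans (congrArg (stalkLin q (g Q)) ?_)
      refine (M1.germ_smul (Coh.structureModule X) _ (Coh.toGlobal p r) (one ⊤)).symm.trans (congrArg _ ?_)
      exact mul_one (Coh.toGlobal p r)
    have hr0 : r = 0 := by
      by_contra hr0
      obtain ⟨w, hw⟩ := hunit Q₂ r hr0
      have h5 := h3 Q₂
      rw [show fam ⟨g Q₂, hmem Q₂⟩ = 0 from if_pos (subset_closure (Set.mem_singleton (g Q₂))), smul_zero, ← hw] at h5
      have h6 : stalkLin q (g Q₂) (gO (g Q₂)) = 0 := by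
        have := congrArg (fun v => (↑w⁻¹ : X.presheaf.stalk (g Q₂)) • v) h5
        simpa [← mul_smul] using this
      refine stalkLin_toSubscheme_one_ne_zero J₂ (hs₂.ge (subset_closure (Set.mem_singleton (g Q₂)))) ?_
      rw [← hsnd, h6, map_zero, map_zero]
    by_contra hc0
    have h5 := h3 Q₁
    rw [show fam ⟨g Q₁, hmem Q₁⟩ = stalkLin q (g Q₁) (gO (g Q₁)) from
      (if_neg fun h => hP (hcl hQ₂ _ (hmem Q₁) h)).trans (hεx _), hr0, map_zero, map_zero, zero_smul] at h5
    obtain ⟨w, hw⟩ := (hunit Q₁ c hc0).mul (hunit Q₁ (π ^ k) (pow_ne_zero k hπ.ne_zero))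
    rw [← hw] at h5
    have h6 : stalkLin q (g Q₁) (gO (g Q₁)) = 0 := by
      have := congrArg (fun v => (↑w⁻¹ : X.presheaf.stalk (g Q₁)) • v) h5.symm
      simpa [← mul_smul] using this
    refine stalkLin_toSubscheme_one_ne_zero J₁ (hs₁.ge (subset_closure (Set.mem_singleton (g Q₁)))) ?_
    rw [← hfst, h6, map_zero, map_zero]
  haveI : Module.Finite R (Coh.HH X (kernel q) 1) := CohFound.finite_HH_of_isProper _ hker 1
  let T := Submodule.torsion R (Coh.HH X (kernel q) 1)
  have hyT : Submodule.Quotient.mk (p := T) y ≠ 0 := fun h => by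
    obtain ⟨⟨c, hc⟩, hcy⟩ := (Submodule.Quotient.mk_eq_zero T).1 h
    exact nonZeroDivisors.ne_zero hc (hy c hcy)
  haveI : Module.Free R (Coh.HH X (kernel q) 1 ⧸ T) := Module.free_of_finite_type_torsion_free'
  obtain ⟨ψ, hψ⟩ : ∃ ψ : Module.Dual R (Coh.HH X (kernel q) 1 ⧸ T), ψ (Submodule.Quotient.mk y) ≠ 0 := by
    by_contra hh
    push Not at hh
    exact hyT ((Module.forall_dual_apply_eq_zero_iff R _).1 hh)
  exact ⟨ψ.comp T.mkQ, fun h => hψ (LinearMap.congr_fun h y)⟩

end Groth.Agent.DlzCurve17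

end
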