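import Groth.Agent.S1808
import Groth.Agent.Lib.BC8.ViaCM
import Groth.Agent.Lib.BC8.NoEmbedded
import Groth.Agent.Lib.CurveCoh17.LES
import Groth.Prelude.Def_DDual2

/-!
# Serre duality for the dualizing module of a proper curve over a field
-/

set_option autoImplicit false
set_option linter.style.haveILetI false

universe u

open CategoryTheory CategoryTheory.Limits AlgebraicGeometry
attribute [local instance] HasDerivedCategory.standard

namespace Groth.Agent.DlzCurve17

variable (k : Type u) [Field k] (X : Scheme.{u}) [X.Over (Spec (CommRingCat.of k))]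
  [IsProper (X ↘ Spec (CommRingCat.of k))]

theorem exists_trace (hdim : topologicalKrullDim X = 1)
    [DCoh.HasRpush (X ↘ Spec (CommRingCat.of k))] (h : DCoh.RpushPreservesQCoh (X ↘ Spec (CommRingCat.of k)))
    [DCoh.HasShriek (X ↘ Spec (CommRingCat.of k)) h]
    (OY : DCoh.DQCoh (Spec (CommRingCat.of k)))
    (hOY : Nonempty (OY.obj ≅ DCoh.inD (Spec (CommRingCat.of k)) (Coh.structureModule (Spec (CommRingCat.of k))))) :
    ∃ t : Coh.HH X (DCoh.dualizingMod (X ↘ Spec (CommRingCat.of k)) h OY 1) 1 →ₗ[k] k,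
      ∀ (F : X.Modules), Coh.IsCoh F → ∀ ψ : Coh.HH X F 1 →ₗ[k] k,
        ∃! φ : F ⟶ DCoh.dualizingMod (X ↘ Spec (CommRingCat.of k)) h OY 1,
          ∀ x : Coh.HH X F 1, ψ x = t (Sheaf.H.map ((SheafOfModules.toSheaf X.ringCatSheaf).map φ) 1 x) := by
  haveI : ∀ (R : CommRingCat.{u}), PreservesFiniteLimits (tilde.functor R) := fun R => M1.tilde_preservesFiniteLimits
  obtain ⟨eO⟩ := hOY
  let ω : Dual.D (CommRingCat.of k) := Dual.inD k k
  let eW : OY.obj ≅ (DPerf.tildeDD (CommRingCat.of k)).obj ω := eO ≪≫ DGen9.KO.oneIso (R := CommRingCat.of k)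
  have hfib : topologicalKrullDim ((X ↘ Spec (CommRingCat.of k)).fiber (IsLocalRing.closedPoint k)) = 1 := by
    refine (IsHomeomorph.topologicalKrullDim_eq _ (((X ↘ Spec (CommRingCat.of k)).fiberHomeo
      (IsLocalRing.closedPoint k : (Spec (CommRingCat.of k) : Scheme.{u}))).trans
      ((Homeomorph.setCongr (Set.preimage_eq_univ_iff.2 fun y _ => Subsingleton.elim _ _)).trans
        (Homeomorph.Set.univ _))).isHomeomorph).trans hdim
  obtain ⟨t, ht⟩ := S1808.result k ω (BC8.isDualizing_self_field k) (BC8.isNormalized_self_field k) 0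
    (by simp) X h (DCoh.shriek (X ↘ Spec (CommRingCat.of k)) h) (DCoh.shriekAdj (X ↘ Spec (CommRingCat.of k)) h)
    OY ⟨eW⟩ 1 1 hdim hfib rfl
  let e : Dual.HD k ω (-((0 : ℕ) : ℤ)) ≃ₗ[k] k :=
    (((DerivedCategory.singleFunctorCompHomologyFunctorIso (ModuleCat.{u} k) 0).app (ModuleCat.of k k))).toLinearEquiv
  refine ⟨e.toLinearMap ∘ₗ t, fun F hF ψ => ?_⟩
  obtain ⟨φ, hφ, huniq⟩ := ht F hF (e.symm.toLinearMap ∘ₗ ψ)
  refine ⟨φ, fun x => ?_, fun φ' hφ' => huniq φ' fun x => ?_⟩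
  · have := congrArg e (hφ x)
    simpa using this
  · show e.symm (ψ x) = _
    rw [hφ' x]
    exact e.symm_apply_apply _

/-- `H¹(X, F) = 0` as soon as there is no nonzero map to the dualizing module. -/
theorem subsingleton_h1_of_hom_eq_zero (hdim : topologicalKrullDim X = 1)
    [DCoh.HasRpush (X ↘ Spec (CommRingCat.of k))] (h : DCoh.RpushPreservesQCoh (X ↘ Spec (CommRingCat.of k)))
    [DCoh.HasShriek (X ↘ Spec (CommRingCat.of k)) h]
    (OY : DCoh.DQCoh (Spec (CommRingCat.of k)))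
    (hOY : Nonempty (OY.obj ≅ DCoh.inD (Spec (CommRingCat.of k)) (Coh.structureModule (Spec (CommRingCat.of k)))))
    {F : X.Modules} (hF : Coh.IsCoh F)
    (h0 : ∀ φ : F ⟶ DCoh.dualizingMod (X ↘ Spec (CommRingCat.of k)) h OY 1, φ = 0) :
    Subsingleton (Coh.HH X F 1) := by
  obtain ⟨t, ht⟩ := exists_trace k X hdim h OY hOY
  haveI : Module.Free k (Coh.HH X F 1) := Module.Free.of_divisionRing k _
  refine ⟨fun a b => sub_eq_zero.1 ((Module.forall_dual_apply_eq_zero_iff k _).1 fun ψ => ?_)⟩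
  obtain ⟨φ, hφ, -⟩ := ht F hF ψ
  rw [hφ, h0 φ]
  exact (congrArg t (CurveCoh17.hmap_zero k 1 (a - b))).trans (map_zero t)

end Groth.Agent.DlzCurve17
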