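import Groth.Prelude.Def_Wider
import Groth.Agent.Lib.Dlz27.Loc
import Groth.Agent.Lib.DMod.Basic
import Mathlib.Algebra.Module.FinitePresentation

/-!
# Endomorphisms of a single-degree dualizing complex after localisation
-/

set_option autoImplicit false
set_option linter.style.haveILetI false
set_option backward.isDefEq.respectTransparency false

universe u

open CategoryTheory CategoryTheory.Limits

attribute [local instance] HasDerivedCategory.standard

noncomputable section

namespace Groth.Agent.DlzCurve17

theorem bijective_smul_localized {A : Type u} [CommRing A] [IsNoetherianRing A] {N : Type u} [AddCommGroup N]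
    [Module A N] [Module.Finite A N] (hN : Function.Bijective fun a : A => a • (LinearMap.id : N →ₗ[A] N))
    (S : Submonoid A) :
    Function.Bijective fun r : Localization S =>
      r • (LinearMap.id : LocalizedModule S N →ₗ[Localization S] LocalizedModule S N) := by
  let mk := LocalizedModule.mkLinearMap S N
  constructor
  · refine fun r r' h => sub_eq_zero.1 ?_
    have h0 : (r - r') • (LinearMap.id : LocalizedModule S N →ₗ[Localization S] LocalizedModule S N) = 0 :=
      LinearMap.ext fun v => by
        have hv : r • v = r' • v := LinearMap.congr_fun h v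
        simp [sub_smul, hv]
    revert h0
    generalize r - r' = d
    intro h0
    obtain ⟨⟨a, s⟩, hs⟩ := IsLocalization.surj S d
    have h1 : ∀ n : N, mk (a • n) = 0 := fun n => by
      rw [map_smul, ← IsScalarTower.algebraMap_smul (Localization S) a (mk n), ← hs, mul_comm, mul_smul,
        show d • mk n = 0 from LinearMap.congr_fun h0 (mk n), smul_zero]
    have h2 : mk ∘ₗ (a • LinearMap.id) = mk ∘ₗ (0 : N →ₗ[A] N) := LinearMap.ext fun n => by
      simpa using h1 n
    obtain ⟨t, ht⟩ := Module.Finite.exists_smul_of_comp_eq_of_isLocalizedModule S mk _ _ h2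
    have h3 : (t : A) * a = 0 := hN.1 (by
      show ((t : A) * a) • LinearMap.id = (0 : A) • LinearMap.id
      rw [zero_smul, mul_smul]
      simpa [Submonoid.smul_def] using ht)
    have h4 : algebraMap A (Localization S) a = 0 :=
      (IsLocalization.map_eq_zero_iff S (Localization S) a).2 ⟨t, h3⟩
    rw [h4] at hs
    exact (IsUnit.mul_left_eq_zero (IsLocalization.map_units (Localization S) s)).1 hs
  · intro f
    haveI : Module.FinitePresentation A N := Module.finitePresentation_of_finite A N
    obtain ⟨g, s, hg⟩ := Module.FinitePresentation.exists_lift_of_isLocalizedModule S mk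
      ((f.restrictScalars A) ∘ₗ mk)
    obtain ⟨a, rfl⟩ := hN.2 g
    refine ⟨IsLocalization.mk' (Localization S) a s, ?_⟩
    have hres : ((IsLocalization.mk' (Localization S) a s) •
        (LinearMap.id : LocalizedModule S N →ₗ[Localization S] LocalizedModule S N)).restrictScalars A =
        f.restrictScalars A := by
      refine IsLocalizedModule.ext S mk (IsLocalizedModule.map_units mk) (LinearMap.ext fun n => ?_)
      show IsLocalization.mk' (Localization S) a s • mk n = f (mk n)
      have h1 : a • mk n = (s : A) • f (mk n) := by
        have := LinearMap.congr_fun hg n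
        simp only [LinearMap.comp_apply, LinearMap.smul_apply, LinearMap.id_apply, LinearMap.map_smul,
          LinearMap.restrictScalars_apply, Submonoid.smul_def] at this
        exact this
      refine ((Module.End.isUnit_iff _).1 (IsLocalizedModule.map_units mk s)).1 ?_
      show (s : A) • (IsLocalization.mk' (Localization S) a s • mk n) = (s : A) • f (mk n)
      rw [← h1, ← IsScalarTower.algebraMap_smul (Localization S) (s : A), ← mul_smul, mul_comm,
        IsLocalization.mk'_spec, IsScalarTower.algebraMap_smul]
    exact LinearMap.ext fun v => LinearMap.congr_fun hres v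

/-- A dualizing complex in a single degree gives a module with only scalar endomorphisms. -/
theorem bijective_smul_HD {A : Type u} [CommRing A] {M : Dual.D A} (hM : Dual.IsDualizing A M) (c : ℤ)
    (hz : ∀ i : ℤ, i ≠ c → Subsingleton (Dual.HD A M i)) :
    Function.Bijective fun a : A => a • (LinearMap.id : Dual.HD A M c →ₗ[A] Dual.HD A M c) := by
  haveI : M.IsGE c := (DMod.isGE_iff M c).2 fun i hi => hz i hi.ne
  haveI : M.IsLE c := (DMod.isLE_iff M c).2 fun i hi => hz i hi.ne'
  obtain ⟨N, ⟨eN⟩⟩ := DerivedCategory.exists_iso_singleFunctor_obj_of_isGE_of_isLE M c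
  let eNa : N ≅ ModuleCat.of A (Dual.HD A M c) :=
    ((DerivedCategory.singleFunctorCompHomologyFunctorIso (ModuleCat.{u} A) c).app N).symm ≪≫
      (DerivedCategory.homologyFunctor (ModuleCat.{u} A) c).mapIso eN.symm
  let F := DerivedCategory.singleFunctor (ModuleCat.{u} A) c
  let e : M ≅ F.obj (ModuleCat.of A (Dual.HD A M c)) := eN ≪≫ F.mapIso eNa
  have key : ∀ a : A, e.inv ≫ (a • 𝟙 M) ≫ e.hom = F.map (a • 𝟙 _) := fun a => by
    rw [Functor.map_smul, CategoryTheory.Functor.map_id, Linear.smul_comp, Linear.comp_smul, Category.id_comp,
      e.inv_hom_id]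
  have hb : Function.Bijective fun a : A => a • 𝟙 (ModuleCat.of A (Dual.HD A M c)) := by
    have h1 : Function.Bijective fun a : A => F.map (a • 𝟙 (ModuleCat.of A (Dual.HD A M c))) := by
      convert (e.homCongr e).bijective.comp hM.toEnd_bijective using 1
      funext a
      exact (key a).symm
    exact ((Functor.FullyFaithful.ofFullyFaithful F).homEquiv.bijective.of_comp_iff' _).1 h1
  convert (ModuleCat.homEquiv (M := ModuleCat.of A (Dual.HD A M c)) (N := ModuleCat.of A (Dual.HD A M c))).bijective.comp hb
    using 1
  funext a
  rfl

end Groth.Agent.DlzCurve17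

end
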