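import Groth.Agent.Lib.DlzCurve17.GorDual
import Groth.Agent.Lib.DlzCurve17.EndAlg
import Groth.Agent.Lib.CurveR1_10.Dim
import Groth.Agent.Lib.CurveCoh17.Integral
import Groth.Agent.Lib.CohMop.Bidual

/-!
# Endomorphisms of the dualizing module of a Cohen–Macaulay curve
-/

set_option autoImplicit false
set_option linter.style.haveILetI false
set_option backward.isDefEq.respectTransparency false
set_option backward.isDefEq.respectTransparency.types false
set_option maxHeartbeats 1000000

universe u

open CategoryTheory CategoryTheory.Limits AlgebraicGeometry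
attribute [local instance] HasDerivedCategory.standard

noncomputable section

namespace Groth.Agent.DlzCurve17

open Groth.Agent.M1 Groth.Agent.M2 Groth.Agent.CurveCoh17

/-- Transport of the bijectivity of scalars along a semilinear equivalence. -/
theorem bijective_smul_semilinear {R R' N N' : Type*} [CommRing R] [CommRing R'] [AddCommGroup N] [Module R N]
    [AddCommGroup N'] [Module R' N'] (σ : R ≃+* R') (e : N ≃+ N') (h : ∀ a v, e (a • v) = σ a • e v)
    (hN : Function.Bijective fun r : R' => r • (LinearMap.id : N' →ₗ[R'] N')) :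
    Function.Bijective fun r : R => r • (LinearMap.id : N →ₗ[R] N) := by
  constructor
  · intro r r' hr
    refine σ.injective (hN.1 (LinearMap.ext fun v => ?_))
    have h1 : r • e.symm v = r' • e.symm v := LinearMap.congr_fun hr (e.symm v)
    have h2 := congrArg e h1
    rw [h, h, e.apply_symm_apply] at h2
    exact h2
  · intro φ
    let φ' : N' →ₗ[R'] N' :=
      { toFun := fun v => e (φ (e.symm v))
        map_add' := fun a b => by rw [map_add, map_add, map_add]
        map_smul' := fun a v => by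
          have h1 : e.symm (a • v) = σ.symm a • e.symm v := e.injective (by
            rw [e.apply_symm_apply, h, σ.apply_symm_apply, e.apply_symm_apply])
          rw [h1, map_smul, h, σ.apply_symm_apply]
          rfl }
    obtain ⟨a, ha⟩ := hN.2 φ'
    refine ⟨σ.symm a, LinearMap.ext fun v => e.injective ?_⟩
    have h1 := LinearMap.congr_fun ha (e v)
    simp only [LinearMap.smul_apply, LinearMap.id_apply] at h1 ⊢
    rw [h, σ.apply_symm_apply, h1]
    show e (φ (e.symm (e v))) = _
    rw [e.symm_apply_apply]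

variable {X : Scheme.{u}} (k : Type u) [Field k] [X.Over (Spec (CommRingCat.of k))]
  [IsProper (X ↘ Spec (CommRingCat.of k))]
  [DCoh.HasRpush (X ↘ Spec (CommRingCat.of k))] (h : DCoh.RpushPreservesQCoh (X ↘ Spec (CommRingCat.of k)))
  [DCoh.HasShriek (X ↘ Spec (CommRingCat.of k)) h]
  (OY : DCoh.DQCoh (Spec (CommRingCat.of k)))
  (hOY : Nonempty (OY.obj ≅ DCoh.inD (Spec (CommRingCat.of k)) (Coh.structureModule (Spec (CommRingCat.of k)))))
  (hCM : ∀ x : X, LocCoh.IsCohenMacaulayLocalRing (X.presheaf.stalk x))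
  (hequi : ∀ Z ∈ irreducibleComponents (X : Type u), topologicalKrullDim Z = 1)

local notation "ω" => DCoh.dualizingMod (X ↘ Spec (CommRingCat.of k)) h OY 1

include hOY hCM hequi

/-- The dualizing module of a Cohen–Macaulay curve has only scalar endomorphisms on stalks. -/
theorem bijective_smul_stalk (x : X) : Function.Bijective fun r : X.presheaf.stalk x =>
    r • (LinearMap.id : (ω).presheaf.stalk x →ₗ[X.presheaf.stalk x] (ω).presheaf.stalk x) := by
  haveI : ∀ (R : CommRingCat.{u}), PreservesFiniteLimits (tilde.functor R) := fun R => M1.tilde_preservesFiniteLimits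
  haveI : ∀ (U V : Scheme.{u}) (j : U ⟶ V) [IsOpenImmersion j],
      PreservesFiniteLimits (Scheme.Modules.restrictFunctor j) := fun U V j _ => inferInstance
  let str := X ↘ Spec (CommRingCat.of k)
  haveI := VB17.isNoetherian_of_over (k := k) (X := X)
  have hdim : topologicalKrullDim X = ((1 : ℕ) : WithBot ℕ∞) := by
    refine le_antisymm (CurveR1_10.topologicalKrullDim_le_of_components fun Z hZ => (hequi Z hZ).le) ?_
    have hZ := irreducibleComponent_mem_irreducibleComponents x
    exact (hequi _ hZ).ge.trans (topologicalKrullDim_subspace_le X _)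
  have heq : ∀ y : X, IsClosed ({y} : Set X) → ringKrullDim (X.presheaf.stalk y) = ((1 : ℕ) : WithBot ℕ∞) :=
    fun y hy => by
      obtain ⟨b, hb⟩ := ProjDual12.exists_dim_stalk_eq (X.presheaf.stalk y)
      have hp := ProjDual12.ringKrullDim_stalk_add_sdim_of_pure str (n := 1) hequi hb
      rw [(VarDim.sdim_eq_zero_iff_isClosed str y).2 hy, add_zero] at hp
      rw [hb, hp]
  obtain ⟨eO⟩ := hOY
  let adjX := DCoh.shriekAdj str h
  let KX : DCoh.D X := DCoh.dualizingCx str h OY
  obtain ⟨o⟩ := BC8.nonempty_tilde_shift (CommRingCat.of k) 0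
  let eW : (BC8.W₀ k).obj ≅ (DPerf.tildeDD (CommRingCat.of k)).obj (Dual.inD k k) := Iso.refl _
  let eW' : (BC8.W₀ k).obj ≅ OY.obj := eW ≪≫
    (DPerf.tildeDD (CommRingCat.of k)).mapIso ((shiftFunctorZero (Dual.D k) ℤ).app _).symm ≪≫ o ≪≫
    eqToIso (by rw [neg_zero]) ≪≫ eO.symm
  have hK := BC8.isDualizingSch_proper (A := CommRingCat.of k) (BC8.isDualizing_self_field k) str adjX eW
  have hcl := BC8.dlt_eq_zero_of_isClosed (A := CommRingCat.of k) (BC8.isDualizing_self_field k)
    (BC8.isNormalized_self_field k) str adjX eW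
  let eK : ((DCoh.shriek str h).obj (BC8.W₀ k)).obj ≅ KX := (ObjectProperty.ι _).mapIso
    ((DCoh.shriek str h).mapIso (ObjectProperty.isoMk _ eW' : BC8.W₀ k ≅ OY))
  have hKX : Dual2.IsDualizingSch X KX := BC8.isDualizingSch_of_iso eK hK
  let c : ℤ := -((1 : ℕ) : ℤ)
  have hz : ∀ t : ℤ, t ≠ c → IsZero (DCoh.HD KX t) := fun t ht =>
    (BC8.isZero_HD_of_CM hK hcl 1 hdim hCM heq t ht).of_iso
      ((DerivedCategory.homologyFunctor _ t).mapIso eK.symm)
  obtain ⟨U, hU, hxU, -⟩ := exists_isAffineOpen_mem_and_subset (X := X) (x := x) (U := ⊤) trivial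
  obtain ⟨p, rfl⟩ : x ∈ Set.range hU.fromSpec := by rw [hU.range_fromSpec]; exact hxU
  haveI : IsNoetherianRing Γ(X, U) := IsLocallyNoetherian.component_noetherian ⟨U, hU⟩
  obtain ⟨M, hM, hMdl⟩ := DlzSch27.mdl_of_isDualizingSch hKX Γ(X, U) hU.fromSpec
  obtain ⟨σ, e, he⟩ := DlzSch27.exists_stalkEquiv_aux KX hU.fromSpec M hMdl p c
  haveI := hM.finite_cohomology c
  exact bijective_smul_semilinear σ e he (bijective_smul_localized
    (bijective_smul_HD hM c fun t ht => DlzSch27.subsingleton_HD_of_isZero hMdl t (hz t ht))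
    (p : PrimeSpectrum Γ(X, U)).asIdeal.primeCompl)

/-- `O ⟶ 𝓗om(ω, ω)` is an isomorphism on a Cohen–Macaulay curve. -/
theorem isIso_secHom_ofHom : IsIso (secHom (RefHull.ofHom (𝟙 ω) (⊤ : X.Opens))) := by
  haveI := VB17.isNoetherian_of_over (k := k) (X := X)
  refine (M1.isIso_iff_stalk _).2 fun x => ?_
  have hev := RH26.evalStalk_bijective (M1.isFP_of_isCoh (isCoh_dualizingMod k X h OY hOY)) ω x
  have hid : RefHull.evalStalk ω ω x ((RefHull.homSh ω ω).presheaf.germ ⊤ x trivial (RefHull.ofHom (𝟙 ω) ⊤)) =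
      LinearMap.id := by
    rw [RefHull.evalStalk_germ]
    refine LinearMap.ext fun v => ?_
    obtain ⟨V, hV, m, rfl⟩ := (ω).presheaf.exists_germ_eq v
    exact RefHull.stalkMapₗ_germ _ _ _ _
  have hb := bijective_smul_stalk k h OY hOY hCM hequi x
  show Function.Bijective (stalkLin (secHom (RefHull.ofHom (𝟙 ω) (⊤ : X.Opens))) x)
  constructor
  · rw [injective_iff_map_eq_zero]
    intro a ha
    obtain ⟨c, rfl, hc⟩ := stalkLin_secHom (RefHull.ofHom (𝟙 ω) (⊤ : X.Opens)) x a
    have h1 := congrArg (RefHull.evalStalk ω ω x) (hc.symm.trans ha)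
    rw [map_zero, map_smul, hid] at h1
    rw [show c = 0 from hb.1 (by simpa using h1), zero_smul]
  · intro b
    obtain ⟨r, hr⟩ := hb.2 (RefHull.evalStalk ω ω x b)
    refine ⟨r • (Coh.structureModule X).presheaf.germ ⊤ x trivial (one ⊤), hev.1 ?_⟩
    rw [map_smul, stalkLin_apply, germ_naturality, secHom_app_one, map_smul, hid]
    exact hr

omit hCM hequi in
/-- `h⁰(ω) = h¹(O)`. -/
theorem h0_dualizing_eq (hdim : topologicalKrullDim X = 1) :
    Module.finrank k (Coh.HH X ω 0) = Module.finrank k (Coh.HH X (Coh.structureModule X) 1) := by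
  haveI := VB17.isNoetherian_of_over (k := k) (X := X)
  have hO := PicLoc.isInvertible_structureModule X
  have hfp : CohB1.IsFP (Coh.structureModule X) := M1.isFP_of_isCoh (M1.isCoh_structureModule X)
  haveI : ModSite.HasSheafHom (O := X.sheaf) (Coh.structureModule X) := CohMop.isLeftAdjoint_tenR _
  haveI := LMEuler8.isIso_toIhom (Coh.structureModule X) ω hfp
  rw [← h0_homSh_eq_h1 k h OY hOY hdim (M1.isCoh_structureModule X)]
  exact (hequiv k (asIso (LMEuler8.toIhom (Coh.structureModule X) ω) ≪≫ CohMop.ihomUnitIso ω) 0).finrank_eq.symm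

/-- `h¹(ω) = h⁰(O)` on a Cohen–Macaulay curve. -/
theorem h1_dualizing_eq (hdim : topologicalKrullDim X = 1) :
    Module.finrank k (Coh.HH X ω 1) = Module.finrank k (Coh.HH X (Coh.structureModule X) 0) := by
  haveI := isIso_secHom_ofHom k h OY hOY hCM hequi
  rw [← h0_homSh_eq_h1 k h OY hOY hdim (isCoh_dualizingMod k X h OY hOY)]
  exact (hequiv k (asIso (secHom (RefHull.ofHom (𝟙 ω) (⊤ : X.Opens)))) 0).finrank_eq.symm

end Groth.Agent.DlzCurve17

end
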