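import Groth.Agent.Lib.DlzCurve17.HomDual
import Groth.Agent.Lib.SlopeDual17.HomDeg
import Groth.Agent.Lib.TensorNat17.Basic

/-!
# Duality for reflexive modules when the dualizing module is invertible
-/

set_option autoImplicit false
set_option linter.style.haveILetI false
set_option backward.isDefEq.respectTransparency false
set_option backward.isDefEq.respectTransparency.types false
set_option maxHeartbeats 1000000

universe u

open CategoryTheory CategoryTheory.Limits AlgebraicGeometry TopologicalSpace TensorProduct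
attribute [local instance] HasDerivedCategory.standard

noncomputable section

namespace Groth.Agent.DlzCurve17

open Groth.Agent.M1 Groth.Agent.M2 Groth.Agent.CurveCoh17

theorem bijective_dualTensorHom {R M N : Type*} [CommRing R] [AddCommGroup M] [Module R M] [AddCommGroup N]
    [Module R N] (e : N ≃ₗ[R] R) : Function.Bijective (dualTensorHom R M N) := by
  let a : Module.Dual R M ⊗[R] N ≃ₗ[R] Module.Dual R M :=
    (TensorProduct.congr (LinearEquiv.refl R _) e).trans (TensorProduct.rid R _)
  let b : (M →ₗ[R] N) ≃ₗ[R] Module.Dual R M := LinearEquiv.congrRight e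
  have key : ∀ t, b (dualTensorHom R M N t) = a t := by
    intro t
    induction t using TensorProduct.induction_on with
    | zero => simp
    | tmul f n =>
      ext v
      show e (dualTensorHom R M N (f ⊗ₜ[R] n) v) = (TensorProduct.rid R _ (f ⊗ₜ[R] e n)) v
      simp [mul_comm]
    | add x y hx hy => simp only [map_add, hx, hy]
  have : (dualTensorHom R M N : Module.Dual R M ⊗[R] N → (M →ₗ[R] N)) = b.symm ∘ a :=
    funext fun t => by rw [Function.comp_apply, ← key t, b.symm_apply_apply]
  rw [this]
  exact b.symm.bijective.comp a.bijective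

variable {X : Scheme.{u}}

/-- Homomorphisms into an invertible module. -/
theorem isIso_outer [IsLocallyNoetherian X] {Q L : X.Modules} (hQ : Coh.IsCoh Q) (hL : PicF.IsInvertible L) :
    IsIso (mkHom (SlopeDual17.outerBi Q L)) := by
  refine (M1.isIso_iff_stalk _).2 fun x => ?_
  obtain ⟨e⟩ := nonempty_stalk_equiv ((isInvertible_iff_isFinLocFreeOfRank_one L).1 hL) x
  have h1 := bijective_dualTensorHom (M := Q.presheaf.stalk x)
    (e.trans (LinearEquiv.funUnique (Fin 1) (X.presheaf.stalk x) (X.presheaf.stalk x)))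
  have h2 := (RH26.evalStalk_bijective (M1.isFP_of_isCoh hQ) L x)
  let T : (CohB1.tensorMod (RefHull.dual Q) L).presheaf.stalk x →ₗ[X.presheaf.stalk x]
      RefHull.StalkHom Q L x :=
    (dualTensorHom (X.presheaf.stalk x) (Q.presheaf.stalk x) (L.presheaf.stalk x)).comp
      (((RH26.dualEquiv hQ x).toLinearMap.rTensor _).comp (stalkEquiv (RefHull.dual Q) L x).toLinearMap)
  have hT : Function.Bijective T :=
    (h1.comp (LinearEquiv.rTensor (L.presheaf.stalk x) (RH26.dualEquiv hQ x)).bijective).comp
      (stalkEquiv (RefHull.dual Q) L x).bijective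
  have key : ∀ t, RefHull.evalStalk Q L x (stalkLin (mkHom (SlopeDual17.outerBi Q L)) x t) = T t := fun t => by
    obtain ⟨t, rfl⟩ := (stalkEquiv (RefHull.dual Q) L x).symm.surjective t
    rw [SlopeDual17.evalStalk_outer hQ]
    simp [T]
  have h3 : Function.Bijective (stalkLin (mkHom (SlopeDual17.outerBi Q L)) x) := by
    refine (h2.of_comp_iff' _).1 ?_
    convert hT using 1
    exact funext key
  exact h3

variable (k : Type u) [Field k] [X.Over (Spec (CommRingCat.of k))]
  [IsProper (X ↘ Spec (CommRingCat.of k))]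
  [DCoh.HasRpush (X ↘ Spec (CommRingCat.of k))] (h : DCoh.RpushPreservesQCoh (X ↘ Spec (CommRingCat.of k)))
  [DCoh.HasShriek (X ↘ Spec (CommRingCat.of k)) h]
  (OY : DCoh.DQCoh (Spec (CommRingCat.of k)))
  (hOY : Nonempty (OY.obj ≅ DCoh.inD (Spec (CommRingCat.of k)) (Coh.structureModule (Spec (CommRingCat.of k)))))

local notation "ω" => DCoh.dualizingMod (X ↘ Spec (CommRingCat.of k)) h OY 1

include hOY

/-- Serre duality in the top degree. -/
theorem h0_homSh_eq_h1 (hdim : topologicalKrullDim X = 1) {F : X.Modules} (hF : Coh.IsCoh F) :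
    Module.finrank k (Coh.HH X (RefHull.homSh F ω) 0) = Module.finrank k (Coh.HH X F 1) := by
  haveI : Coh.IsQCoh F := hF.1
  refine le_antisymm (h0_le_h1_of_pairing k X h OY hOY hdim hF (M2.mkHom (LMEuler8.evalBi F ω))
    fun s hs => secHom_evalBi_eq_zero s hs) ?_
  have hO := PicLoc.isInvertible_structureModule X
  have := h1_le_h0_twist k X h OY hOY hdim hF hO hO (tensorLUnit (Coh.structureModule X)).symm
  rwa [(hequiv k (tensorRUnit F) 1).finrank_eq, (hequiv k (tensorRUnit _) 0).finrank_eq] at this

/-- Serre duality for a reflexive coherent module. -/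
theorem duality_of_reflexive (hdim : topologicalKrullDim X = 1) (hω : PicF.IsInvertible ω) {F : X.Modules}
    (hF : Coh.IsCoh F) (hFr : RefHull.IsReflexive F) :
    Module.finrank k (Coh.HH X F 0) = Module.finrank k (Coh.HH X (CohB1.tensorMod (RefHull.dual F) ω) 1) ∧
      Module.finrank k (Coh.HH X F 1) = Module.finrank k (Coh.HH X (CohB1.tensorMod (RefHull.dual F) ω) 0) := by
  haveI := VB17.isNoetherian_of_over (k := k) (X := X)
  haveI := isIso_outer hF hω
  have hD := RH26.isCoh_dual hF
  refine ⟨le_antisymm ?_ ?_, ?_⟩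
  · let ev : CohB1.tensorMod F (RefHull.dual F) ⟶ Coh.structureModule X :=
      (tensorComm _ _).hom ≫ M2.mkHom (LMEuler8.evalBi F (Coh.structureModule X))
    refine h0_le_h1_of_pairing k X h OY hOY hdim
      (isCoh_tensor hD (isCoh_of_ofRank ((isInvertible_iff_isFinLocFreeOfRank_one _).1 hω)))
      ((tensorAssoc F (RefHull.dual F) ω).inv ≫ tensorMap ev (𝟙 ω) ≫ (tensorLUnit ω).hom) fun s hs => ?_
    have hnat := M2.tensorAssoc_natural (secHom s) (𝟙 (RefHull.dual F)) (𝟙 ω)
    rw [show tensorMap (𝟙 (RefHull.dual F)) (𝟙 ω) = 𝟙 _ from (tensorR ω).map_id _, ← Iso.inv_comp_eq,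
      ← Category.assoc, ← Iso.eq_comp_inv] at hnat
    have h1 : (tensorAssoc (Coh.structureModule X) (RefHull.dual F) ω).inv ≫
        tensorMap (tensorMap (secHom s) (𝟙 (RefHull.dual F))) (𝟙 ω) ≫ tensorMap ev (𝟙 ω) ≫ (tensorLUnit ω).hom = 0 := by
      rw [← Category.assoc, hnat, Category.assoc]
      exact hs
    haveI := VB17.isEquivalence_tensorR hω
    have h2 : tensorMap (secHom s) (𝟙 (RefHull.dual F)) ≫ ev = 0 := (tensorR ω).map_injective <| by
      refine Eq.trans ((tensorR ω).map_comp _ _) (Eq.trans ?_ ((tensorR ω).map_zero _ _).symm)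
      rw [← cancel_epi (tensorAssoc (Coh.structureModule X) (RefHull.dual F) ω).inv,
        ← cancel_mono (tensorLUnit ω).hom]
      simp only [Category.assoc, comp_zero, zero_comp] at h1 ⊢
      exact h1
    haveI : IsIso (RefHull.bidualMap F) := hFr
    refine M1.section_ext _ _ fun x hx => ?_
    rw [map_zero]
    refine ((RH26.isIso_iff_stalkMapₗ (RefHull.bidualMap F)).1 hFr x).1 ?_
    rw [map_zero]
    refine (RH26.evalStalk_bijective (M1.isFP_of_isCoh hD) (Coh.structureModule X) x).1 ?_
    rw [RH26.evalStalk_bidualMap, map_zero]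
    refine LinearMap.ext fun θ => ?_
    obtain ⟨U, hU, θ, rfl⟩ := TopCat.Presheaf.exists_germ_eq (RefHull.dual F).presheaf θ
    have h3 := congrArg (fun φ => φ.app U (tsec _ _ (one U) θ)) h2
    simp only [ev, Scheme.Modules.Hom.comp_app, CategoryTheory.comp_apply, tensorMap_tsec,
      CurveCoh17.tensorComm_tsec, M2.mkHom_tsec] at h3
    rw [show (𝟙 (RefHull.dual F) : _ ⟶ _).app U θ = θ from rfl] at h3
    have h4 := congrArg ((Coh.structureModule X).presheaf.germ U x hU)
      (h3.trans (show (0 : _ ⟶ Coh.structureModule X).app U _ = 0 from rfl))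
    rw [map_zero, show (LMEuler8.evalBi F (Coh.structureModule X)).f U θ ((secHom s).app U (one U)) =
      LMEuler8.appSec F _ θ ((secHom s).app U (one U)) from rfl, LMEuler8.germ_appSec, Twist.secHom_app] at h4
    rw [RefHull.bidualAt_apply, RefHull.evalStalk_germ, LinearMap.zero_apply]
    refine Eq.trans (congrArg _ ?_) h4
    simp [one, TopCat.Presheaf.germ_res_apply]
  · obtain ⟨W', hW', ⟨eW⟩⟩ := exists_inverse hω
    haveI := isIso_outer hD hω
    haveI : IsIso (RefHull.bidualMap F) := hFr
    have := h1_le_h0_twist k X h OY hOY hdim hD hW' hω eW.symm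
    refine this.trans (le_of_eq ?_)
    exact (hequiv k ((tensorR W').mapIso (asIso (mkHom (SlopeDual17.outerBi (RefHull.dual F) ω))).symm ≪≫
      tensorAssoc _ _ _ ≪≫ tensorIso (Iso.refl _) eW ≪≫ tensorRUnit _ ≪≫
      (asIso (RefHull.bidualMap F)).symm) 0).finrank_eq
  · rw [← h0_homSh_eq_h1 k h OY hOY hdim hF]
    exact (hequiv k (asIso (mkHom (SlopeDual17.outerBi F ω))).symm 0).finrank_eq

end Groth.Agent.DlzCurve17

end
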