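import Groth.Agent.Lib.DlzCurve17.Gorenstein
import Groth.Agent.Lib.LMEuler8.HomSheaf
import Groth.Agent.Lib.RefHull26.Dual
import Groth.Agent.Lib.RefHull26.Algebra
import Groth.Agent.Lib.CurveCoh17.Pairing
import Groth.Agent.Lib.CurveAmple18.Main
import Groth.Agent.Lib.CurveAmple18.PointTwist
import Groth.Agent.Lib.CurveAmple18.EulerTensor
import Groth.Agent.Lib.TFOne27.Basic

/-!
# Sheaf Hom into the dualizing module of a proper integral curve
-/

set_option autoImplicit false
set_option linter.style.haveILetI false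
set_option backward.isDefEq.respectTransparency false
set_option backward.isDefEq.respectTransparency.types false
set_option maxHeartbeats 1000000

universe u

open CategoryTheory CategoryTheory.Limits AlgebraicGeometry TopologicalSpace
attribute [local instance] HasDerivedCategory.standard

noncomputable section

namespace Groth.Agent.DlzCurve17

open Groth.Agent.M1 Groth.Agent.M2 Groth.Agent.CurveCoh17

theorem exists_map_ne_zero {R M N : Type u} [CommRing R] [IsDomain R] [IsNoetherianRing R] [AddCommGroup M]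
    [Module R M] [Module.Finite R M] [Module.IsTorsionFree R M] [AddCommGroup N] [Module R N]
    [Module.IsTorsionFree R N] [Nontrivial N] {v : M} (hv : v ≠ 0) : ∃ f : M →ₗ[R] N, f v ≠ 0 := by
  obtain ⟨φ, hφ⟩ : ∃ φ : Module.Dual R M, φ v ≠ 0 := by
    by_contra h
    push Not at h
    obtain ⟨r, hr, hrv⟩ := RH26.exists_smul_eq_zero_of_forall_dual h
    exact hv ((smul_eq_zero.1 hrv).resolve_left hr)
  obtain ⟨w, hw⟩ := exists_ne (0 : N)
  refine ⟨(LinearMap.toSpanSingleton R N w).comp φ, fun h => ?_⟩
  exact hw ((smul_eq_zero.1 h).resolve_left hφ)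

section Scheme

variable {X : Scheme.{u}}

theorem finite_stalk [IsLocallyNoetherian X] {F : X.Modules} (hF : Coh.IsCoh F) (x : X) :
    Module.Finite (X.presheaf.stalk x) (F.presheaf.stalk x) :=
  M1.finite_stalk hF.1 (M1.isFP_isFT (M1.isFP_of_isCoh hF)) x

theorem isTorsionFree_homSh [IsLocallyNoetherian X] [IsIntegral X] {F G : X.Modules} (hF : Coh.IsCoh F)
    (hG : TorSh.IsTorsionFree G) : TorSh.IsTorsionFree (RefHull.homSh F G) := fun x => by
  haveI := hG x
  exact Function.Injective.moduleIsTorsionFree (RefHull.evalStalk F G x)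
    (RH26.evalStalk_bijective (M1.isFP_of_isCoh hF) G x).1 (map_smul _)

/-- The rank of the sheaf Hom at the generic point. -/
theorem finrank_homSh [IsIntegral X] [IsLocallyNoetherian X] {F G : X.Modules} (hF : Coh.IsCoh F)
    (hG : Coh.IsCoh G) :
    Module.finrank (X.presheaf.stalk (genericPoint X)) ((RefHull.homSh F G).presheaf.stalk (genericPoint X)) =
      Module.finrank (X.presheaf.stalk (genericPoint X)) (F.presheaf.stalk (genericPoint X)) *
        Module.finrank (X.presheaf.stalk (genericPoint X)) (G.presheaf.stalk (genericPoint X)) := by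
  haveI := finite_stalk hF (genericPoint X)
  haveI := finite_stalk hG (genericPoint X)
  letI : Field (X.presheaf.stalk (genericPoint X)) := (Field.toIsField X.functionField).toField
  haveI : Module.Free (X.presheaf.stalk (genericPoint X)) (F.presheaf.stalk (genericPoint X)) :=
    Module.Free.of_divisionRing _ _
  haveI : Module.Free (X.presheaf.stalk (genericPoint X)) (G.presheaf.stalk (genericPoint X)) :=
    Module.Free.of_divisionRing _ _
  exact (LinearEquiv.ofBijective (RefHull.evalStalk F G (genericPoint X))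
    (RH26.evalStalk_bijective (M1.isFP_of_isCoh hF) G _)).finrank_eq.trans (Module.finrank_linearMap _ _ _ _)

/-- A nonzero torsion-free coherent module has nonzero stalks. -/
theorem nontrivial_stalk [IsIntegral X] {G : X.Modules} (hG : Coh.IsCoh G)
    (hη : Nontrivial (G.presheaf.stalk (genericPoint X))) (x : X) : Nontrivial (G.presheaf.stalk x) := by
  rw [← not_subsingleton_iff_nontrivial] at hη ⊢
  intro hx
  have hcl : IsClosed (CohB1.support G) := M1.isClosed_support hG.2
  exact hη (Classical.not_not.1 fun h =>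
    (fun h' => h' hx : x ∉ CohB1.support G) ((genericPoint_specializes x).mem_closed hcl h))

/-- Evaluation is nondegenerate on the left. -/
theorem secHom_evalBi_eq_zero {F G : X.Modules} [Coh.IsQCoh F] (θ : Γ(RefHull.homSh F G, (⊤ : X.Opens)))
    (h : tensorMap (secHom θ) (𝟙 F) ≫ M2.mkHom (LMEuler8.evalBi F G) = 0) : θ = 0 := by
  refine Subtype.ext (funext fun y => ?_)
  show θ.1 y = 0
  refine LinearMap.ext fun a => ?_
  obtain ⟨U, hU, s, rfl⟩ := TopCat.Presheaf.exists_germ_eq F.presheaf a
  have h1 := congrArg (fun φ => φ.app U (tsec _ _ (one U) s)) h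
  simp only [Scheme.Modules.Hom.comp_app, CategoryTheory.comp_apply, tensorMap_tsec, M2.mkHom_tsec] at h1
  rw [show (𝟙 F : F ⟶ F).app U s = s from rfl] at h1
  have h2 := congrArg (G.presheaf.germ U y.1 hU) (h1.trans (show (0 : _ ⟶ G).app U _ = 0 from rfl))
  rw [map_zero, show (LMEuler8.evalBi F G).f U ((secHom θ).app U (one U)) s =
    LMEuler8.appSec F G ((secHom θ).app U (one U)) s from rfl, LMEuler8.germ_appSec, Twist.secHom_app] at h2
  simp [one] at h2
  exact h2

/-- Evaluation is nondegenerate on the right. -/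
theorem secHom_evalBi_comm_eq_zero [IsLocallyNoetherian X] [IsIntegral X] {F G : X.Modules} (hF : Coh.IsCoh F)
    (hFt : TorSh.IsTorsionFree F) (hGt : TorSh.IsTorsionFree G) (hGn : ∀ x : X, Nontrivial (G.presheaf.stalk x))
    (s : Γ(F, (⊤ : X.Opens)))
    (h : tensorMap (secHom s) (𝟙 (RefHull.homSh F G)) ≫ (tensorComm _ _).hom ≫ M2.mkHom (LMEuler8.evalBi F G) = 0) :
    s = 0 := by
  refine M1.section_ext _ _ fun x hx => ?_
  rw [map_zero]
  by_contra hv
  haveI := hFt x
  haveI := hGt x
  haveI := hGn x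
  haveI := finite_stalk hF x
  obtain ⟨f, hf⟩ := exists_map_ne_zero (R := X.presheaf.stalk x) (N := G.presheaf.stalk x) hv
  obtain ⟨θx, hθx⟩ := (RH26.evalStalk_bijective (M1.isFP_of_isCoh hF) G x).2 f
  obtain ⟨U, hU, θ, rfl⟩ := TopCat.Presheaf.exists_germ_eq (RefHull.homSh F G).presheaf θx
  have h1 := congrArg (fun φ => φ.app U (tsec _ _ (one U) θ)) h
  simp only [Scheme.Modules.Hom.comp_app, CategoryTheory.comp_apply, tensorMap_tsec, CurveCoh17.tensorComm_tsec,
    M2.mkHom_tsec] at h1
  rw [show (𝟙 (RefHull.homSh F G) : _ ⟶ _).app U θ = θ from rfl] at h1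
  have h2 := congrArg (G.presheaf.germ U x hU) (h1.trans (show (0 : _ ⟶ G).app U _ = 0 from rfl))
  rw [map_zero, show (LMEuler8.evalBi F G).f U θ ((secHom s).app U (one U)) =
    LMEuler8.appSec F G θ ((secHom s).app U (one U)) from rfl, LMEuler8.germ_appSec] at h2
  refine hf ?_
  rw [← hθx, RefHull.evalStalk_germ]
  refine Eq.trans (congrArg _ ?_) h2
  rw [Twist.secHom_app]
  simp [one, TopCat.Presheaf.germ_res_apply]

end Scheme

variable (k : Type u) [Field k] (X : Scheme.{u}) [X.Over (Spec (CommRingCat.of k))]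
  [IsProper (X ↘ Spec (CommRingCat.of k))]
  [DCoh.HasRpush (X ↘ Spec (CommRingCat.of k))] (h : DCoh.RpushPreservesQCoh (X ↘ Spec (CommRingCat.of k)))
  [DCoh.HasShriek (X ↘ Spec (CommRingCat.of k)) h]
  (OY : DCoh.DQCoh (Spec (CommRingCat.of k)))
  (hOY : Nonempty (OY.obj ≅ DCoh.inD (Spec (CommRingCat.of k)) (Coh.structureModule (Spec (CommRingCat.of k)))))

local notation "ω" => DCoh.dualizingMod (X ↘ Spec (CommRingCat.of k)) h OY 1

include hOY

theorem isCoh_dualizingMod : Coh.IsCoh ω := by
  haveI : ∀ (R : CommRingCat.{u}), PreservesFiniteLimits (tilde.functor R) := fun R => M1.tilde_preservesFiniteLimits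
  haveI : ∀ (U V : Scheme.{u}) (j : U ⟶ V) [IsOpenImmersion j],
      PreservesFiniteLimits (Scheme.Modules.restrictFunctor j) := fun U V j _ => inferInstance
  let str := X ↘ Spec (CommRingCat.of k)
  haveI := VB17.isNoetherian_of_over (k := k) (X := X)
  obtain ⟨eO⟩ := hOY
  let adjX := DCoh.shriekAdj str h
  obtain ⟨o⟩ := BC8.nonempty_tilde_shift (CommRingCat.of k) 0
  let eW : (BC8.W₀ k).obj ≅ (DPerf.tildeDD (CommRingCat.of k)).obj (Dual.inD k k) := Iso.refl _
  let eW' : (BC8.W₀ k).obj ≅ OY.obj := eW ≪≫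
    (DPerf.tildeDD (CommRingCat.of k)).mapIso ((shiftFunctorZero (Dual.D k) ℤ).app _).symm ≪≫ o ≪≫
    eqToIso (by rw [neg_zero]) ≪≫ eO.symm
  have hK := BC8.isDualizingSch_proper (A := CommRingCat.of k) (BC8.isDualizing_self_field k) str adjX eW
  exact CohFound.isCoh_of_iso
    ((DerivedCategory.homologyFunctor _ (-((1 : ℕ) : ℤ))).mapIso
      ((ObjectProperty.ι _).mapIso ((DCoh.shriek str h).mapIso (ObjectProperty.isoMk _ eW' : BC8.W₀ k ≅ OY))))
    (BC8.isCohD_dualizing hK _)

/-- A pairing into the dualizing module bounds sections by `H¹`. -/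
theorem h0_le_h1_of_pairing (hdim : topologicalKrullDim X = 1) {A B : X.Modules} (hB : Coh.IsCoh B)
    (e : CohB1.tensorMod A B ⟶ ω)
    (he : ∀ s : Γ(A, (⊤ : X.Opens)), tensorMap (secHom s) (𝟙 B) ≫ e = 0 → s = 0) :
    Module.finrank k (Coh.HH X A 0) ≤ Module.finrank k (Coh.HH X B 1) := by
  obtain ⟨t, ht⟩ := exists_trace k X hdim h OY hOY
  have hX := CurveAmple18.curveLike k X hdim.le
  haveI := hX.fin B hB 1
  let T : Coh.HH X A 0 →ₗ[k] Module.Dual k (Coh.HH X B 1) :=
    LinearMap.mk₂ k (fun z x => t (hmap k e 1 (mulPair k A B 1 z (hmap k (tensorLUnit B).inv 1 x))))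
      (fun z w x => by rw [map_add, LinearMap.add_apply, map_add, map_add])
      (fun c z x => by rw [map_smul, LinearMap.smul_apply, map_smul, map_smul])
      (fun z x y => by rw [map_add, map_add, map_add, map_add])
      (fun c z x => by rw [map_smul, map_smul, map_smul, map_smul])
  refine (LinearMap.finrank_le_finrank_of_injective (f := T) ((injective_iff_map_eq_zero T).2 fun z hz => ?_)).trans
    Subspace.dual_finrank_eq.le
  obtain ⟨φ, -, huniq⟩ := ht B hB 0
  have h1 : (tensorLUnit B).inv ≫ tensorMap (secHom (hh0 A z)) (𝟙 B) ≫ e = 0 :=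
    (huniq _ fun x => by
      refine (LinearMap.congr_fun hz x).symm.trans ?_
      refine congrArg t ?_
      show hmap k e 1 (hmap k (tensorMap (secHom (hh0 A z)) (𝟙 B)) 1 (hmap k (tensorLUnit B).inv 1 x)) = _
      rw [← hmap_comp, ← hmap_comp]
      rfl).trans (huniq 0 fun x => by
      exact ((congrArg t (CurveCoh17.hmap_zero k 1 x)).trans (map_zero t)).symm).symm
  have h2 : tensorMap (secHom (hh0 A z)) (𝟙 B) ≫ e = 0 := by
    rw [← cancel_epi (tensorLUnit B).inv, h1, comp_zero]
  exact (hh0 A).injective ((he _ h2).trans (map_zero _).symm)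

/-- Every functional on `H¹(F ⊗ N')` comes from a section of `𝓗om(F, ω) ⊗ N`. -/
theorem h1_le_h0_twist (hdim : topologicalKrullDim X = 1) {F N N' : X.Modules} (hF : Coh.IsCoh F)
    (hN : PicF.IsInvertible N) (hN' : PicF.IsInvertible N')
    (u : Coh.structureModule X ≅ CohB1.tensorMod N' N) :
    Module.finrank k (Coh.HH X (CohB1.tensorMod F N') 1) ≤
      Module.finrank k (Coh.HH X (CohB1.tensorMod (RefHull.homSh F ω) N) 0) := by
  obtain ⟨t, ht⟩ := exists_trace k X hdim h OY hOY
  have hX := CurveAmple18.curveLike k X hdim.le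
  haveI := hX.noetherian
  have hω := isCoh_dualizingMod k X h OY hOY
  have hN1 := (isInvertible_iff_isFinLocFreeOfRank_one N).1 hN
  have hFN := isCoh_tensor hF (isCoh_of_ofRank ((isInvertible_iff_isFinLocFreeOfRank_one N').1 hN'))
  have hDN := isCoh_tensor (RH26.isCoh_homSh hF hω) (isCoh_of_ofRank hN1)
  haveI := hX.fin _ hFN 1
  haveI := hX.fin _ hDN 0
  haveI := LMEuler8.isIso_toIhom F ω (M1.isFP_of_isCoh hF)
  choose Φ hΦ hΦu using ht _ hFN
  -- the transpose
  let τ : (CohB1.tensorMod F N' ⟶ ω) → (N' ⟶ RefHull.homSh F ω) := fun φ =>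
    (CohMop.ihomAdj F).homEquiv N' ω ((tensorComm N' F).hom ≫ φ) ≫ inv (LMEuler8.toIhom F ω)
  have τinj : Function.Injective τ := fun a b hab => by
    have := ((CohMop.ihomAdj F).homEquiv N' ω).injective ((cancel_mono (inv (LMEuler8.toIhom F ω))).1 hab)
    exact (cancel_epi _).1 this
  have τadd : ∀ a b, τ (a + b) = τ a + τ b := fun a b => by
    simp only [τ]
    rw [Preadditive.comp_add]
    refine Eq.trans (congrArg (· ≫ _) ?_) (Preadditive.add_comp _ _ _ _ _ _)
    simp only [Adjunction.homEquiv_unit, Functor.map_add, Preadditive.comp_add]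
  have τsmul : ∀ (r : Coh.Γtop X) a, τ (Formal.smulModΓ _ r ≫ a) = Formal.smulModΓ N' r ≫ τ a := fun r a => by
    simp only [τ]
    rw [← Category.assoc (Formal.smulModΓ N' r), ← Category.assoc (tensorComm N' F).hom, KLin.comp_smulModΓ,
      Category.assoc, ← tensorMap_smulModΓ N' F r]
    exact congrArg (· ≫ _) ((CohMop.ihomAdj F).homEquiv_naturality_left (Formal.smulModΓ N' r) _)
  let g : (N' ⟶ RefHull.homSh F ω) → Coh.HH X (CohB1.tensorMod (RefHull.homSh F ω) N) 0 := fun α =>
    hmap k (u.hom ≫ tensorMap α (𝟙 N)) 0 ((hh0 (Coh.structureModule X)).symm (one ⊤))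
  have ginj : Function.Injective g := fun a b hab => by
    have h1 : u.hom ≫ tensorMap a (𝟙 N) = u.hom ≫ tensorMap b (𝟙 N) := by
      refine unit_hom_ext ?_
      have := congrArg (hh0 _) hab
      simpa only [g, hh0_hmap, AddEquiv.apply_symm_apply] using this
    have h2 := (cancel_epi u.hom).1 h1
    exact haveI := VB17.isEquivalence_tensorR hN; (tensorR N).map_injective h2
  let S : Module.Dual k (Coh.HH X (CohB1.tensorMod F N') 1) →ₗ[k]
      Coh.HH X (CohB1.tensorMod (RefHull.homSh F ω) N) 0 :=
    { toFun := fun ψ => g (τ (Φ ψ))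
      map_add' := fun a b => by
        have : Φ (a + b) = Φ a + Φ b := (hΦu (a + b) _ fun x => by
          rw [LinearMap.add_apply, hΦ a x, hΦ b x, ← map_add]
          exact congrArg t (hmap₀_add _ _ 1 x).symm).symm
        rw [this, τadd]
        simp only [g]
        rw [show tensorMap (τ (Φ a) + τ (Φ b)) (𝟙 N) = tensorMap (τ (Φ a)) (𝟙 N) + tensorMap (τ (Φ b)) (𝟙 N) from
          (tensorR N).map_add, Preadditive.comp_add]
        exact hmap₀_add _ _ 0 _
      map_smul' := fun c ψ => by
        let r := Coh.toGlobal (X ↘ Spec (CommRingCat.of k)) c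
        have : Φ (c • ψ) = Formal.smulModΓ _ r ≫ Φ ψ := (hΦu (c • ψ) _ fun x => by
          rw [LinearMap.smul_apply, hΦ ψ x, ← map_smul]
          refine congrArg t ?_
          show _ = hmap k (Formal.smulModΓ _ r ≫ Φ ψ) 1 x
          rw [← KLin.comp_smulModΓ, hmap_comp]
          exact (hmap₀_smulModΓ _ r 1 _).symm).symm
        rw [this, τsmul]
        simp only [g, RingHom.id_apply]
        rw [show tensorMap (Formal.smulModΓ N' r ≫ τ (Φ ψ)) (𝟙 N) =
            Formal.smulModΓ (CohB1.tensorMod N' N) r ≫ tensorMap (τ (Φ ψ)) (𝟙 N) by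
          rw [← tensorMap_smulModΓ]; exact (tensorR N).map_comp _ _, ← Category.assoc, KLin.comp_smulModΓ,
          Category.assoc, hmap_comp]
        rw [show hmap k (Formal.smulModΓ (Coh.structureModule X) r) 0 ((hh0 _).symm (one ⊤)) =
          c • (hh0 (Coh.structureModule X)).symm (one ⊤) from hmap₀_smulModΓ _ r 0 _, map_smul] }
  refine Subspace.dual_finrank_eq.ge.trans (LinearMap.finrank_le_finrank_of_injective (f := S) fun a b hab => ?_)
  have := τinj (ginj hab)
  refine LinearMap.ext fun x => ?_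
  rw [hΦ a x, hΦ b x, this]

variable [IsIntegral X]

theorem isTorsionFree_dualizingMod (hdim : topologicalKrullDim X = 1) : TorSh.IsTorsionFree ω := by
  have hX := CurveAmple18.curveLike k X hdim.le
  haveI := hX.noetherian
  have hω := isCoh_dualizingMod k X h OY hOY
  let β := RefHull.bidualMap ω
  have hDD := RH26.isCoh_dual (RH26.isCoh_dual hω)
  have hKc : Coh.IsCoh (kernel β) := M1.isCoh_kernel hω hDD.1 β
  let T : ShortComplex X.Modules := ShortComplex.mk (kernel.ι β) β (kernel.condition β)
  have hTe : T.Exact := T.exact_of_f_is_kernel (kernelIsKernel β)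
  obtain ⟨S, hS⟩ := exists_suppIn_of_maximal hdim.le hKc fun g hg a => by
    obtain rfl := eq_genericPoint_of_maximal hg
    refine (mono_iff_stalk (kernel.ι β)).1 inferInstance (genericPoint X) ?_
    rw [map_zero]
    haveI := finite_stalk hω (genericPoint X)
    letI : Field (X.presheaf.stalk (genericPoint X)) := (Field.toIsField X.functionField).toField
    haveI := Module.Free.of_divisionRing (X.presheaf.stalk (genericPoint X))
      ((DCoh.dualizingMod (X ↘ Spec (CommRingCat.of k)) h OY 1).presheaf.stalk (genericPoint X))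
    refine ((RH26.bijective_bidual_stalk_iff hω (genericPoint X)).2 (show Module.IsReflexive _ _ from inferInstance)).1 ?_
    refine Eq.trans ?_ (map_zero _).symm
    show stalkLin β (genericPoint X) (stalkLin (kernel.ι β) (genericPoint X) a) = 0
    rw [← stalkLin_comp, kernel.condition, TFOne27.stalkLin_zero]
  haveI := hS.subsingleton_HH 0
  obtain ⟨t, ht⟩ := exists_trace k X hdim h OY hOY
  obtain ⟨φ, -, huniq⟩ := ht _ hKc 0
  have h0 : kernel.ι β = 0 := (huniq _ fun x => by rw [Subsingleton.elim x 0]; simp).trans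
    (huniq 0 fun x => by rw [Subsingleton.elim x 0]; simp).symm
  haveI : Mono β := Preadditive.mono_of_kernel_zero h0
  intro x
  haveI := (isTorsionFree_homSh (G := Coh.structureModule X) (RH26.isCoh_dual hω) fun y => by
    obtain ⟨e⟩ := CurveCoh17.nonempty_stalk_equiv_structureModule y
    exact Function.Injective.moduleIsTorsionFree e e.injective (map_smul e)) x
  exact Function.Injective.moduleIsTorsionFree (stalkLin β x) ((mono_iff_stalk β).1 inferInstance x) (map_smul _)

end Groth.Agent.DlzCurve17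

end
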