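import Groth.Agent.Lib.DlzCurve17.HomDual
import Groth.Agent.Lib.CohFound.RelVan
import Groth.Agent.Lib.RefHull26.Glue

/-!
# Euler characteristic and biduality of sheaf Hom into the dualizing module
-/

set_option autoImplicit false
set_option linter.style.haveILetI false
set_option backward.isDefEq.respectTransparency false
set_option backward.isDefEq.respectTransparency.types false
set_option maxHeartbeats 1000000

universe u

open CategoryTheory CategoryTheory.Limits AlgebraicGeometry TopologicalSpace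
attribute [local instance] HasDerivedCategory.standard

noncomputable section

namespace Groth.Agent.DlzCurve17

open Groth.Agent.M1 Groth.Agent.M2 Groth.Agent.CurveCoh17

section Map

variable {X : Scheme.{u}} (F G : X.Modules)

/-- Evaluation of homomorphisms at an element of the stalk. -/
def evalAt (x : X) : F.presheaf.stalk x →ₗ[X.presheaf.stalk x] RefHull.StalkHom (RefHull.homSh F G) G x where
  toFun v := (LinearMap.applyₗ v).comp (RefHull.evalStalk F G x)
  map_add' v w := LinearMap.ext fun θ => map_add (RefHull.evalStalk F G x θ) v w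
  map_smul' a v := LinearMap.ext fun θ => map_smul (RefHull.evalStalk F G x θ) a v

/-- The map to the double dual on sections. -/
def evalFun (U : X.Opens) : Γ(F, U) →+ Γ(RefHull.homSh (RefHull.homSh F G) G, U) where
  toFun s := ⟨fun x => evalAt F G x.1 (F.presheaf.germ U x.1 x.2 s), fun V i g x => by
    obtain ⟨W, hW, j, n, w⟩ := RefHull.isLocSect_of_mem g V (𝟙 V) (F.presheaf.map i.op s) x
    refine ⟨W, hW, j, n, fun y => ?_⟩
    have e := w y
    rw [TopCat.Presheaf.germ_res_apply] at e
    show RefHull.evalStalk F G y.1 _ _ = _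
    rw [RefHull.evalStalk_germ]
    exact e⟩
  map_zero' := Subtype.ext <| funext fun x => by
    simp only [map_zero]
    rfl
  map_add' s t := Subtype.ext <| funext fun x => by
    simp only [map_add]
    rfl

/-- The canonical map to the double dual. -/
def evalMap : F ⟶ RefHull.homSh (RefHull.homSh F G) G :=
  ⟨PresheafOfModules.homMk
    { app := fun U => AddCommGrpCat.ofHom (evalFun F G U.unop)
      naturality := fun {U V} i => by
        ext s
        refine Subtype.ext (funext fun x => ?_)
        change evalAt F G x.1 _ = evalAt F G x.1 _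
        exact congrArg _ (TopCat.Presheaf.germ_res_apply' F.presheaf i x.1 x.2 s) }
    (fun U r s => Subtype.ext <| funext fun x =>
      (congrArg (evalAt F G x.1) (Mero.germ_smul F U.unop x.1 x.2 r s)).trans
        (map_smul (evalAt F G x.1) _ _))⟩

theorem evalStalk_evalMap (x : X) (v : F.presheaf.stalk x) (θ : (RefHull.homSh F G).presheaf.stalk x) :
    RefHull.evalStalk (RefHull.homSh F G) G x (RefHull.stalkMapₗ (evalMap F G) x v) θ =
      RefHull.evalStalk F G x θ v := by
  obtain ⟨V, hV, m, rfl⟩ := F.presheaf.exists_germ_eq v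
  rw [RefHull.stalkMapₗ_germ, RefHull.evalStalk_germ]
  rfl

end Map

/-- The rank at the generic point. -/
abbrev grk {X : Scheme.{u}} [IsIntegral X] (F : X.Modules) : ℕ :=
  Module.finrank (X.presheaf.stalk (genericPoint X)) (F.presheaf.stalk (genericPoint X))

theorem grk_homSh {X : Scheme.{u}} [IsIntegral X] [IsLocallyNoetherian X] {F G : X.Modules} (hF : Coh.IsCoh F)
    (hG : Coh.IsCoh G) : grk (RefHull.homSh F G) = grk F * grk G :=
  finrank_homSh hF hG

variable (k : Type u) [Field k] [IsAlgClosed k] (X : Scheme.{u}) [X.Over (Spec (CommRingCat.of k))]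
  [IsProper (X ↘ Spec (CommRingCat.of k))] [IsIntegral X]
  [DCoh.HasRpush (X ↘ Spec (CommRingCat.of k))] (h : DCoh.RpushPreservesQCoh (X ↘ Spec (CommRingCat.of k)))
  [DCoh.HasShriek (X ↘ Spec (CommRingCat.of k)) h]
  (OY : DCoh.DQCoh (Spec (CommRingCat.of k)))
  (hOY : Nonempty (OY.obj ≅ DCoh.inD (Spec (CommRingCat.of k)) (Coh.structureModule (Spec (CommRingCat.of k)))))

local notation "ω" => DCoh.dualizingMod (X ↘ Spec (CommRingCat.of k)) h OY 1

omit [DCoh.HasRpush (X ↘ Spec (CommRingCat.of k))] in
theorem exists_degree_one (hdim : topologicalKrullDim X = 1) :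
    ∃ L : X.Modules, PicF.IsInvertible L ∧ Curv2.deg k X L 1 = 1 := by
  have hX := CurveAmple18.curveLike k X hdim.le
  haveI := hX.noetherian
  have hO := PicLoc.isInvertible_structureModule X
  haveI : Nontrivial (Coh.HH X (Coh.structureModule X) 0) :=
    Module.nontrivial_of_finrank_eq_succ (R := k) (n := 0) hX.h0_eq_one
  obtain ⟨z, hz⟩ := exists_ne (0 : Coh.HH X (Coh.structureModule X) 0)
  obtain ⟨P, hP, -, -⟩ := CurveAmple18.exists_smooth_gen (k := k) hO (hh0_ne_zero hz)
  obtain ⟨P, hP, hreg, -⟩ := CurveAmple18.exists_smooth_gen (k := k) hO (hh0_ne_zero hz)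
  have hI := CurveAmple18.isInvertible_pointIdeal_at hdim hP
  obtain ⟨L, hL, ⟨e⟩⟩ := exists_inverse hI
  exact ⟨L, hL, by rw [hX.deg_of_tensor_iso hI hL e, CurveAmple18.deg_pointIdeal hdim hP, neg_neg]⟩

omit [IsAlgClosed k] [DCoh.HasRpush (X ↘ Spec (CommRingCat.of k))] in
theorem h0_eq_zero_of_deg_neg (hdim : topologicalKrullDim X = 1) {N : X.Modules} (hN : PicF.IsInvertible N)
    (hd : Curv2.deg k X N 1 < 0) : Module.finrank k (Coh.HH X N 0) = 0 := by
  have hX := CurveAmple18.curveLike k X hdim.le
  haveI := hX.noetherian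
  have hR := rkOne_of_invertible hdim.le hN
  haveI := hX.fin N hR.coh 0
  by_contra hne
  have := hX.deg_nonneg hR (Module.finrank_pos_iff.1 (Nat.pos_of_ne_zero hne))
  omega

include hOY

/-- The dualizing module has rank one and sheaf Hom into it negates Euler characteristics. -/
theorem euler_homSh_dualizing (hdim : topologicalKrullDim X = 1) :
    (grk ω) = 1 ∧ ∀ F : X.Modules, Coh.IsCoh F → TorSh.IsTorsionFree F →
      Curv2.euler k X (RefHull.homSh F ω) = - Curv2.euler k X F := by
  have hX := CurveAmple18.curveLike k X hdim.le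
  haveI := hX.noetherian
  have hω := isCoh_dualizingMod k X h OY hOY
  have hωt := isTorsionFree_dualizingMod k X h OY hOY hdim
  obtain ⟨L, hL, hLd⟩ := exists_degree_one k X hdim
  have hamp : CohB1.IsAmple L := CurveAmple18.isAmple_of_deg_pos (k := k) hdim.le hL (by omega)
  have hN : ∀ m : ℕ, ∃ N' : X.Modules, PicF.IsInvertible N' ∧ Curv2.deg k X N' 1 = -(m : ℤ) ∧
      Nonempty (Coh.structureModule X ≅ CohB1.tensorMod N' (CohB1.tensorPow L m)) := fun m => by
    obtain ⟨N', hN', ⟨e⟩⟩ := exists_inverse (isInvertible_tensorPow hL m)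
    refine ⟨N', hN', ?_, ⟨(tensorComm _ _ ≪≫ e).symm⟩⟩
    rw [hX.deg_of_tensor_iso (isInvertible_tensorPow hL m) hN' e, hX.deg_tensorPow hL, hLd, mul_one]
  have hdpow : ∀ m : ℕ, Curv2.deg k X (CohB1.tensorPow L m) 1 = m := fun m => by
    rw [hX.deg_tensorPow hL, hLd, mul_one]
  have heul : ∀ (G : X.Modules), Coh.IsCoh G → Curv2.euler k X G =
      (Module.finrank k (Coh.HH X G 0) : ℤ) - Module.finrank k (Coh.HH X G 1) := fun G hG => (hX.adm hG).euler_eq
  have htw : ∀ (G : X.Modules), Coh.IsCoh G → ∀ (N : X.Modules), PicF.IsInvertible N →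
      Coh.IsCoh (CohB1.tensorMod G N) ∧
      Curv2.euler k X (CohB1.tensorMod G N) = (grk G : ℕ) * Curv2.deg k X N 1 + Curv2.euler k X G := fun G hG N hN => by
    have h1 := (isInvertible_iff_isFinLocFreeOfRank_one N).1 hN
    refine ⟨isCoh_tensor hG (isCoh_of_ofRank h1), ?_⟩
    rw [euler_iso (tensorComm G N), CurveAmple18.euler_tensor_coh hdim.le h1 hG]
    push_cast; ring
  -- nonzero at the generic point
  have hωn : Nontrivial ((DCoh.dualizingMod (X ↘ Spec (CommRingCat.of k)) h OY 1).presheaf.stalk (genericPoint X)) := by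
    rw [← not_subsingleton_iff_nontrivial]
    intro hz
    let m : ℕ := (Curv2.euler k X (Coh.structureModule X)).toNat + 1
    obtain ⟨N', hN', hd', -⟩ := hN m
    have hc := isCoh_of_ofRank ((isInvertible_iff_isFinLocFreeOfRank_one N').1 hN')
    have h0 := h0_eq_zero_of_deg_neg k X hdim hN' (by omega)
    have he := heul N' hc
    rw [Curv2.deg, h0] at *
    obtain ⟨t, ht⟩ := exists_trace k X hdim h OY hOY
    haveI := hX.fin N' hc 1
    haveI : Nontrivial (Coh.HH X N' 1) := Module.finrank_pos_iff.1
      (show 0 < Module.finrank k (Coh.HH X N' 1) by push_cast at hd'; omega)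
    obtain ⟨z, hz0⟩ := exists_ne (0 : Coh.HH X N' 1)
    obtain ⟨ψ, hψ⟩ := Module.Projective.exists_dual_ne_zero k hz0
    obtain ⟨φ, hφ, -⟩ := ht N' hc ψ
    have : φ = 0 := TFOne27.hom_eq_zero hω hωt φ fun η hη a => by
      obtain rfl : η = genericPoint X := eq_genericPoint_of_maximal
        (TFOne27.mem_genericPoints.1 hη)
      exact Subsingleton.elim _ _
    exact hψ (by rw [hφ, this]; exact (congrArg t (CurveCoh17.hmap_zero k 1 z)).trans (map_zero t))
  haveI := finite_stalk hω (genericPoint X)
  have hw1 : 1 ≤ (grk ω) := by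
    letI : Field (X.presheaf.stalk (genericPoint X)) := (Field.toIsField X.functionField).toField
    exact Module.finrank_pos
  have hnt := fun x => nontrivial_stalk hω hωn x
  -- the lower bound
  have hlow : ∀ (F : X.Modules), Coh.IsCoh F → ∃ m₀ : ℕ, ∀ m, m₀ ≤ m →
      -Curv2.euler k X F + (grk F : ℕ) * (m : ℤ) ≤
        Curv2.euler k X (RefHull.homSh F ω) + ((grk F) * (grk ω) : ℕ) * (m : ℤ) := fun F hF => by
    have hD := RH26.isCoh_homSh hF hω
    obtain ⟨m₀, hm₀⟩ := CohFound.exists_vanishing_all (X ↘ Spec (CommRingCat.of k)) hamp hD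
    refine ⟨m₀, fun m hm => ?_⟩
    obtain ⟨N', hN', hd', ⟨e⟩⟩ := hN m
    obtain ⟨c1, e1⟩ := htw F hF N' hN'
    obtain ⟨c2, e2⟩ := htw _ hD _ (isInvertible_tensorPow hL m)
    have hle := h1_le_h0_twist k X h OY hOY hdim hF (isInvertible_tensorPow hL m) hN' e
    haveI : Subsingleton (Coh.HH X (CohB1.tensorMod (RefHull.homSh F ω) (CohB1.tensorPow L m)) 1) :=
      haveI := hm₀ m hm 1 Nat.one_pos
      (CohFound.hhExt _ 1).toEquiv.subsingleton
    rw [heul _ c1, hd'] at e1
    rw [heul _ c2, Module.finrank_zero_of_subsingleton (M := Coh.HH X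
      (CohB1.tensorMod (RefHull.homSh F ω) (CohB1.tensorPow L m)) 1), hdpow, grk_homSh hF hω] at e2
    push_cast at e1 e2 ⊢
    linarith
  -- the upper bounds
  have hup : ∀ (F : X.Modules), Coh.IsCoh F → TorSh.IsTorsionFree F →
      Curv2.euler k X (RefHull.homSh F ω) + Curv2.euler k X F ≤ 0 := fun F hF hFt => by
    have hD := RH26.isCoh_homSh hF hω
    haveI : Coh.IsQCoh F := hF.1
    have a := h0_le_h1_of_pairing k X h OY hOY hdim hF (M2.mkHom (LMEuler8.evalBi F ω))
      fun s hs => secHom_evalBi_eq_zero s hs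
    have b := h0_le_h1_of_pairing k X h OY hOY hdim hD
      ((tensorComm _ _).hom ≫ M2.mkHom (LMEuler8.evalBi F ω))
      fun s hs => secHom_evalBi_comm_eq_zero hF hFt hωt hnt s hs
    rw [heul _ hD, heul _ hF]
    omega
  have hupO : ∀ m : ℕ, 0 < m → Curv2.euler k X ω + (grk ω : ℕ) * (m : ℤ) ≤
      (m : ℤ) - Curv2.euler k X (Coh.structureModule X) := fun m hm => by
    obtain ⟨N', hN', hd', ⟨e⟩⟩ := hN m
    have hc := isCoh_of_ofRank ((isInvertible_iff_isFinLocFreeOfRank_one N').1 hN')
    obtain ⟨c2, e2⟩ := htw _ hω _ (isInvertible_tensorPow hL m)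
    let i : CohB1.tensorMod (CohB1.tensorMod ω (CohB1.tensorPow L m)) N' ≅ ω :=
      tensorAssoc _ _ _ ≪≫ tensorIso (Iso.refl _) (tensorComm _ _ ≪≫ e.symm) ≪≫ tensorRUnit _
    have a := h0_le_h1_of_pairing k X h OY hOY hdim hc i.hom fun s hs => by
      haveI := VB17.isEquivalence_tensorR hN'
      have h1 : tensorMap (secHom s) (𝟙 N') = 0 := by rw [← cancel_mono i.hom, hs, zero_comp]
      have h2 : secHom s = 0 := (tensorR N').map_injective (h1.trans ((tensorR N').map_zero _ _).symm)
      rw [← secHom_app_one s, h2]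
      rfl
    have h0 := h0_eq_zero_of_deg_neg k X hdim hN' (by omega)
    rw [Curv2.deg, heul _ hc, h0] at hd'
    rw [heul _ c2, hdpow] at e2
    push_cast at hd' e2 ⊢
    omega
  have hOt : TorSh.IsTorsionFree (Coh.structureModule X) := fun y => by
    obtain ⟨e⟩ := CurveCoh17.nonempty_stalk_equiv_structureModule y
    exact Function.Injective.moduleIsTorsionFree e e.injective (map_smul e)
  have hw : (grk ω) = 1 := by
    by_contra hne
    have h2 : 2 ≤ (grk ω) := by omega
    let m : ℕ := (-Curv2.euler k X ω - Curv2.euler k X (Coh.structureModule X)).toNat + 1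
    have := hupO m (by omega)
    have : (2 : ℤ) * (m : ℤ) ≤ ((grk ω : ℕ) : ℤ) * (m : ℤ) := by gcongr; exact_mod_cast h2
    omega
  refine ⟨hw, fun F hF hFt => ?_⟩
  obtain ⟨m₀, hm₀⟩ := hlow F hF
  have a := hm₀ m₀ le_rfl
  have b := hup F hF hFt
  rw [hw, mul_one] at a
  linarith

/-- Torsion-free coherent modules are reflexive for the dualizing module. -/
theorem isIso_evalMap (hdim : topologicalKrullDim X = 1) {F : X.Modules} (hF : Coh.IsCoh F)
    (hFt : TorSh.IsTorsionFree F) : IsIso (evalMap F ω) := by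
  have hX := CurveAmple18.curveLike k X hdim.le
  haveI := hX.noetherian
  have hω := isCoh_dualizingMod k X h OY hOY
  have hωt := isTorsionFree_dualizingMod k X h OY hOY hdim
  obtain ⟨hw, he⟩ := euler_homSh_dualizing k X h OY hOY hdim
  have hD := RH26.isCoh_homSh hF hω
  have hDD := RH26.isCoh_homSh hD hω
  haveI := finite_stalk hω (genericPoint X)
  have hnt := fun x => nontrivial_stalk hω
    (Module.nontrivial_of_finrank_eq_succ (R := X.presheaf.stalk (genericPoint X)) (n := 0) hw) x
  let η := evalMap F ω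
  have hinj : ∀ x, Function.Injective (RefHull.stalkMapₗ η x) := fun x => by
    rw [injective_iff_map_eq_zero]
    intro v hv
    by_contra hne
    haveI := hFt x
    haveI := hωt x
    haveI := hnt x
    haveI := finite_stalk hF x
    obtain ⟨f, hf⟩ := exists_map_ne_zero (R := X.presheaf.stalk x)
      (N := (DCoh.dualizingMod (X ↘ Spec (CommRingCat.of k)) h OY 1).presheaf.stalk x) hne
    obtain ⟨θ, hθ⟩ := (RH26.evalStalk_bijective (M1.isFP_of_isCoh hF) ω x).2 f
    have := evalStalk_evalMap F ω x v θ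
    rw [hv, map_zero, hθ] at this
    exact hf this.symm
  haveI : Mono η := (mono_iff_stalk η).2 hinj
  have hCc := M1.isCoh_cokernel hF.1 hDD η
  obtain ⟨S, hS⟩ := exists_suppIn_of_maximal hdim.le hCc fun g hg a => by
    obtain rfl := eq_genericPoint_of_maximal hg
    refine eq_zero_stalk_cokernel η _ ?_ a
    letI : Field (X.presheaf.stalk (genericPoint X)) := (Field.toIsField X.functionField).toField
    haveI := finite_stalk hF (genericPoint X)
    haveI := finite_stalk hDD (genericPoint X)
    refine (LinearMap.injective_iff_surjective_of_finrank_eq_finrank ?_).1 (hinj (genericPoint X))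
    show grk F = grk (RefHull.homSh (RefHull.homSh F ω) ω)
    rw [grk_homSh hD hω, grk_homSh hF hω, hw, mul_one, mul_one]
  let T : ShortComplex X.Modules := ShortComplex.mk η (cokernel.π η) (cokernel.condition η)
  have hT : T.ShortExact := { exact := T.exact_of_g_is_cokernel (cokernelIsCokernel η) }
  have aF := hX.adm hF
  have aC := hX.adm hCc
  have e := euler_add (k := k) hT aF aC
  change Curv2.euler k X (RefHull.homSh (RefHull.homSh F ω) ω) = Curv2.euler k X F + Curv2.euler k X (cokernel η) at e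
  rw [he _ hD (isTorsionFree_homSh hF hωt), he _ hF hFt, hS.euler_eq (aC.fin 0), neg_neg] at e
  haveI := aC.fin 0
  haveI : Subsingleton (Coh.HH X (cokernel η) 0) := (Module.finrank_zero_iff (R := k)).1 (by omega)
  have hz : ∀ (x : X) (c : (cokernel η).presheaf.stalk x), c = 0 := fun x c => by
    classical
    by_cases hx : x ∈ S
    · have h1 := congrFun (congrArg (hS.h0Equiv k) (Subsingleton.elim
        ((hS.h0Equiv k).symm (Pi.single (⟨x, hx⟩ : S) c)) 0)) ⟨x, hx⟩
      rwa [LinearEquiv.apply_symm_apply, map_zero, Pi.single_eq_same] at h1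
    · exact hS.zero x hx c
  rw [RH26.isIso_iff_stalkMapₗ]
  exact fun x => ⟨hinj x, fun b => (exact_iff_stalk_eq_zero T).1 hT.exact x b (hz x _)⟩

end Groth.Agent.DlzCurve17

end
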